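import Mathlib
import Cfsg.Agent.H13.SzEasy
import Cfsg.Prelude.Def_KGroupFacts

/-!
The Schur multiplier of the Suzuki groups `Sz(q)`, `q > 8`, is trivial.
-/

set_option autoImplicit false
namespace Cfsg.Agent.H13
open Matrix MulAction Subgroup
open scoped commutatorElement

theorem pow_index_mem_commutator {Γ : Type*} [Group Γ] (H : Subgroup Γ) [H.FiniteIndex] {a : Γ}
    (h1 : a ∈ center Γ) (h2 : a ∈ commutator Γ) : a ^ H.index ∈ ⁅H, H⁆ := by
  have key : ∀ (k : ℕ) (g₀ : Γ), g₀⁻¹ * a ^ k * g₀ ∈ H → g₀⁻¹ * a ^ k * g₀ = a ^ k := fun k g _ => by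
    rw [mul_assoc, ← mem_center_iff.1 (pow_mem h1 k), inv_mul_cancel_left]
  have h3 := MonoidHom.transfer_eq_pow (Abelianization.of : H →* Abelianization H) a key
  have h4 : MonoidHom.transfer (Abelianization.of : H →* Abelianization H) a = 1 :=
    Abelianization.commutator_subset_ker _ h2
  rw [h4, eq_comm, ← MonoidHom.mem_ker, Abelianization.ker_of] at h3
  rw [← Subgroup.map_subtype_commutator]
  exact ⟨_, h3, rfl⟩

theorem commutatorElement_eq_of_ker_le {Γ G : Type*} [Group Γ] [Group G] {σ : Γ →* G} (hσ : σ.ker ≤ center Γ)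
    {x x' y y' : Γ} (hx : σ x = σ x') (hy : σ y = σ y') : ⁅x, y⁆ = ⁅x', y'⁆ := by
  have h1 : x'⁻¹ * x ∈ center Γ := hσ (by simp [MonoidHom.mem_ker, hx])
  have h2 : y'⁻¹ * y ∈ center Γ := hσ (by simp [MonoidHom.mem_ker, hy])
  obtain ⟨a, ha, rfl⟩ : ∃ a ∈ center Γ, x = x' * a := ⟨_, h1, by group⟩
  obtain ⟨b, hb, rfl⟩ : ∃ b ∈ center Γ, y = y' * b := ⟨_, h2, by group⟩
  rw [mem_center_iff] at ha hb
  calc ⁅x' * a, y' * b⁆ = x' * (a * (y' * b)) * a⁻¹ * x'⁻¹ * b⁻¹ * y'⁻¹ := by rw [commutatorElement_def]; group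
    _ = x' * y' * (b * x'⁻¹) * b⁻¹ * y'⁻¹ := by rw [← ha]; group
    _ = _ := by rw [← hb, commutatorElement_def]; group

/-- A stem extension has trivial kernel if this can be checked on preimages of subgroups of index prime to `p`. -/
theorem ker_eq_bot_of_forall_prime {Γ G : Type*} [Group Γ] [Group G] [Finite Γ] {σ : Γ →* G}
    (hσ : Cfsg.IsStemExtension σ)
    (h : ∀ p : ℕ, p.Prime → ∃ P : Subgroup G, ¬ p ∣ P.index ∧
      ∀ a ∈ σ.ker, a ∈ ⁅P.comap σ, P.comap σ⁆ → a ^ p = 1 → a = 1) : σ.ker = ⊥ := by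
  by_contra h0
  obtain ⟨p, hp, h1⟩ := Nat.exists_prime_and_dvd (n := Nat.card σ.ker) (by rwa [Ne, Subgroup.card_eq_one])
  haveI : Fact p.Prime := ⟨hp⟩
  obtain ⟨⟨a, ha⟩, h2⟩ := exists_prime_orderOf_dvd_card' p h1
  have h2 : orderOf a = p := by rw [← h2, Subgroup.orderOf_mk]
  obtain ⟨P, h3, h4⟩ := h p hp
  have h5 := h4 _ (pow_mem ha _) (pow_index_mem_commutator (P.comap σ) (hσ.2.1 ha) (hσ.2.2 ha))
    (by rw [← pow_mul, mul_comm, pow_mul, ← h2, pow_orderOf_eq_one, one_pow])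
  rw [← orderOf_dvd_iff_pow_eq_one, h2, Subgroup.index_comap_of_surjective _ hσ.1] at h5
  exact h3 h5

theorem commutator_comap_eq_bot_of_isCyclic {Γ G : Type*} [Group Γ] [Group G] {σ : Γ →* G} (hσ : σ.ker ≤ center Γ)
    {P : Subgroup G} (hP : IsCyclic P) : ⁅P.comap σ, P.comap σ⁆ = ⊥ := by
  rw [eq_bot_iff, commutator_le]
  intro x hx y hy
  let f : P.comap σ →* P := σ.subgroupComap P
  have := (f.isMulCommutative_of_isCyclic_of_ker_le_center (fun z hz => by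
    rw [mem_center_iff]
    intro g
    exact Subtype.ext (mem_center_iff.1 (hσ (congrArg Subtype.val hz)) g))).is_comm.comm ⟨x, hx⟩ ⟨y, hy⟩
  rw [mem_bot, commutatorElement_eq_one_iff_mul_comm]
  exact congrArg Subtype.val this

theorem hasCyclicSchurMultiplier_one_of.{u} {G : Type u} [Group G] [Finite G]
    (h : ∀ (Γ : Type u) [Group Γ] [Finite Γ] (σ : Γ →* G), Cfsg.IsStemExtension σ → σ.ker = ⊥) :
    Cfsg.HasCyclicSchurMultiplier G 1 := by
  refine ⟨⟨G, inferInstance, inferInstance, MonoidHom.id G, ⟨Function.surjective_id, by simp, by simp⟩, ?_⟩, ?_⟩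
  · haveI : Unique (MonoidHom.id G).ker := by rw [MonoidHom.ker_id]; infer_instance
    exact ⟨MulEquiv.ofUnique⟩
  · intro Γ _ _ σ hσ
    refine ⟨1, fun x => ⟨1, Subtype.ext ?_⟩⟩
    exact (mem_bot.1 ((h Γ σ hσ).le x.2)).symm

namespace SzData

variable {G : Type*} [Group G] {F : Type*} [Field F] (S : SzData G F)

include S in
theorem additive_eq_one {A : Type*} [Group A] (f : F → A) (hadd : ∀ x y, f (x + y) = f x * f y) (h1 : f 1 = 1)
    (hsq : ∀ x, f (x ^ 2) = f x) (x : F) : f x = 1 := by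
  haveI := S.charP
  have h0 : f 0 = 1 := by
    have := hadd 0 0
    rw [add_zero] at this
    exact left_eq_mul.1 this
  have h2 : f x ^ 2 = 1 := by rw [sq, ← hadd, CharTwo.add_self_eq_zero, h0]
  have h3 : ∀ j, f (x ^ 2 ^ j) = f x := fun j => by
    induction j with
    | zero => simp
    | succ j ih => rw [pow_succ, pow_mul, hsq, ih]
  have h4 : ∀ k, f (∑ j ∈ Finset.range k, x ^ 2 ^ j) = f x ^ k := fun k => by
    induction k with
    | zero => simp [h0]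
    | succ k ih => rw [Finset.sum_range_succ, hadd, ih, h3, pow_succ]
  have h5 : ∀ k, (∑ j ∈ Finset.range k, x ^ 2 ^ j) ^ 2 + x = ∑ j ∈ Finset.range k, x ^ 2 ^ j + x ^ 2 ^ k := fun k => by
    induction k with
    | zero => simp
    | succ k ih =>
      rw [Finset.sum_range_succ, pow_succ 2 k, pow_mul]
      grind
  have h6 := h5 (2 * S.m + 1)
  have h7 := h4 (2 * S.m + 1)
  rw [S.pow_q, add_left_inj] at h6
  rw [pow_succ, pow_mul, h2, one_pow, one_mul] at h7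
  rw [← h7]
  generalize ∑ j ∈ Finset.range (2 * S.m + 1), x ^ 2 ^ j = t at h6
  have h8 : t * (t - 1) = 0 := by grind
  rcases mul_eq_zero.1 h8 with h | h
  · rw [h, h0]
  · rw [sub_eq_zero.1 h, h1]

include S in
/-- An invariant alternating biadditive map on `F` is trivial. -/
theorem alternating_eq_one {A : Type*} [Group A] (β : F → F → A) (h1 : ∀ a b c, β (a + b) c = β a c * β b c)
    (h2 : ∀ a b c, β a (b + c) = β a b * β a c) (h3 : ∀ a, β a a = 1)
    (h4 : ∀ k a b, k ≠ 0 → β (k * a) (k * b) = β a b) (a b : F) : β a b = 1 := by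
  haveI := S.charP
  have h5 : ∀ x, β x 1 = 1 := by
    refine S.additive_eq_one (fun x => β x 1) (fun x y => h1 x y 1) (h3 1) fun x => ?_
    by_cases hx : x = 0
    · simp [hx]
    by_cases hx1 : x + 1 = 0
    · have : x = 1 := by grind
      simp [this]
    have e1 : β x (x + 1) = β x 1 := by rw [h2, h3, one_mul]
    have e2 : β (x + 1) x = β 1 x := by rw [h1, h3, one_mul]
    have e3 : β (x ^ 2) 1 = β x x⁻¹ := by
      rw [← h4 x x x⁻¹ hx, mul_inv_cancel₀ hx, sq]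
    have e4 : ∀ a b, β a b * β b a = 1 := fun a b => by
      have := h3 (a + b)
      rwa [h1, h2, h2, h3, h3, one_mul, mul_one] at this
    have e5 : ∀ a b, β a b * β a b = 1 := fun a b => by
      have h0 : β a 0 = 1 := by
        have := h2 a 0 0
        rw [add_zero] at this
        exact left_eq_mul.1 this
      rw [← h2, CharTwo.add_self_eq_zero, h0]
    have e6 : ∀ a b, β a b = β b a := fun a b => mul_left_cancel ((e5 a b).trans (e4 a b).symm)
    have e7 : β 1 (x ^ 2 + x) = 1 := by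
      have e8 : β 1 (x ^ 2 + x) = β (x⁻¹ + (x + 1)⁻¹) 1 := by
        rw [← h4 (x * (x + 1)) (x⁻¹ + (x + 1)⁻¹) 1 (mul_ne_zero hx hx1)]
        congr 1
        · field_simp
          grind
        · ring
      have e9 : ∀ y, y ≠ 0 → β y⁻¹ 1 = β 1 y := fun y hy => by
        rw [← h4 y y⁻¹ 1 hy, mul_inv_cancel₀ hy, mul_one]
      rw [e8, h1, e9 x hx, e9 _ hx1, h2, h3, mul_one, e5]
    rw [h2] at e7
    change β (x ^ 2) 1 = β x 1
    rw [e6 _ 1, e6 _ 1]
    exact mul_right_cancel (e7.trans (e5 1 x).symm)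
  by_cases hb : b = 0
  · have := h2 a 0 0
    rw [add_zero] at this
    rw [hb]
    exact left_eq_mul.1 this
  · rw [← h4 b⁻¹ a b (inv_ne_zero hb), inv_mul_cancel₀ hb, h5]

theorem exists_pow_eight_ne (hm : 2 ≤ S.m) : ∃ a : F, a ^ 8 ≠ a := by
  haveI := S.finiteF
  obtain ⟨g, hg⟩ := IsCyclic.exists_generator (α := Fˣ)
  have h1 := orderOf_eq_card_of_forall_mem_zpowers hg
  rw [S.card_units] at h1
  refine ⟨g, fun h => ?_⟩
  have h2 : g ^ 7 = 1 := by
    apply Units.ext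
    refine mul_right_cancel₀ g.ne_zero ?_
    rw [Units.val_pow_eq_pow_val, ← pow_succ, h, Units.val_one, one_mul]
  have h3 := Nat.le_of_dvd (by norm_num) (orderOf_dvd_of_pow_eq_one h2)
  have h4 : 2 ^ 5 ≤ S.q := Nat.pow_le_pow_right (by norm_num) (by omega)
  omega

theorem exists_delta_ne_zero (hm : 2 ≤ S.m) : ∃ a : F, a ≠ 0 ∧ 1 + a ≠ 0 ∧
    ((1 + a) * S.θ (1 + a))⁻¹ + (1 + (a * S.θ a)⁻¹) ≠ 0 := by
  haveI := S.charP
  obtain ⟨a, ha⟩ := S.exists_pow_eight_ne hm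
  have h0 : a ≠ 0 := by rintro rfl; simp at ha
  have h1 : 1 + a ≠ 0 := fun e => ha (by grind)
  refine ⟨a, h0, h1, fun h => ha ?_⟩
  have h2 : S.θ a ≠ 0 := (map_ne_zero _).2 h0
  have h3 : S.θ (1 + a) ≠ 0 := (map_ne_zero _).2 h1
  have h4 : (a * S.θ a + a + 1) * ((a + 1) * S.θ a + 1) = 0 := by
    field_simp at h
    rw [map_add, map_one] at h
    grind
  rcases mul_eq_zero.1 h4 with h5 | h5
  · have h6 := congrArg S.θ h5
    simp only [map_add, map_mul, map_one, map_zero, θθ] at h6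
    grind
  · have h6 := congrArg S.θ h5
    simp only [map_add, map_mul, map_one, map_zero, θθ] at h6
    grind

section Stem
variable {Γ : Type*} [Group Γ] {σ : Γ →* G} (hs : Function.Surjective σ) (hσ : σ.ker ≤ center Γ)
include hs hσ

theorem comm_of_mem_comap_Z {x y : Γ} (hx : σ x ∈ S.Z) (hy : σ y ∈ S.Z) : ⁅x, y⁆ = 1 := by
  choose s hs' using hs
  have hc : ∀ b d, ⁅s (S.u 0 b), s (S.u 0 d)⁆ ∈ center Γ := fun b d => hσ (by
    rw [MonoidHom.mem_ker, map_commutatorElement, hs', hs', u_commutator]; simp)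
  obtain ⟨b, hb⟩ := hx
  obtain ⟨d, hd⟩ := hy
  rw [commutatorElement_eq_of_ker_le hσ (hb.trans (hs' _).symm) (hd.trans (hs' _).symm)]
  refine S.alternating_eq_one (fun b d => ⁅s (S.u 0 b), s (S.u 0 d)⁆) (fun a b c => ?_) (fun a b c => ?_)
    (fun a => commutatorElement_self _) (fun k a b hk => ?_) b d
  · rw [commutatorElement_eq_of_ker_le hσ (x' := s (S.u 0 b) * s (S.u 0 a)) (y' := s (S.u 0 c))
      (by rw [map_mul, hs', hs', hs', u_zero_mul, add_comm]) rfl]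
    calc ⁅s (S.u 0 b) * s (S.u 0 a), s (S.u 0 c)⁆
        = s (S.u 0 b) * ⁅s (S.u 0 a), s (S.u 0 c)⁆ * (s (S.u 0 b))⁻¹ * ⁅s (S.u 0 b), s (S.u 0 c)⁆ := by
          simp only [commutatorElement_def]; group
      _ = _ := by rw [mem_center_iff.1 (hc a c), mul_inv_cancel_right]
  · rw [commutatorElement_eq_of_ker_le hσ (x' := s (S.u 0 a)) (y' := s (S.u 0 b) * s (S.u 0 c)) rfl
      (by rw [map_mul, hs', hs', hs', u_zero_mul])]
    calc ⁅s (S.u 0 a), s (S.u 0 b) * s (S.u 0 c)⁆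
        = ⁅s (S.u 0 a), s (S.u 0 b)⁆ * (s (S.u 0 b) * ⁅s (S.u 0 a), s (S.u 0 c)⁆ * (s (S.u 0 b))⁻¹) := by
          simp only [commutatorElement_def]; group
      _ = _ := by rw [mem_center_iff.1 (hc a c), mul_inv_cancel_right]
  · obtain ⟨l, rfl⟩ := S.mul_θ_surjective k
    have hl : l ≠ 0 := by rintro rfl; simp at hk
    let t := s (S.h (Units.mk0 l hl))
    rw [commutatorElement_eq_of_ker_le hσ (x' := t * s (S.u 0 a) * t⁻¹) (y' := t * s (S.u 0 b) * t⁻¹)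
      (by simp only [t, map_mul, map_inv, hs', h_conj_u, Units.val_mk0, mul_zero])
      (by simp only [t, map_mul, map_inv, hs', h_conj_u, Units.val_mk0, mul_zero]),
      ← conjugate_commutatorElement, mem_center_iff.1 (hc a b), mul_inv_cancel_right]

theorem comm_of_mem_comap_U_Z (hm : 2 ≤ S.m) {x y : Γ} (hx : σ x ∈ S.U) (hy : σ y ∈ S.Z) : ⁅x, y⁆ = 1 := by
  haveI := S.charP
  have hZ := fun x y => S.comm_of_mem_comap_Z hs hσ (x := x) (y := y)
  choose s hs' using hs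
  have hc : ∀ x y, σ x ∈ S.U → σ y ∈ S.Z → ⁅x, y⁆ ∈ center Γ := fun x y hx hy => hσ (by
    rw [MonoidHom.mem_ker, map_commutatorElement, commutatorElement_eq_one_iff_mul_comm, S.comm_of_mem_Z hy hx])
  have hl : ∀ x x' y, σ x' ∈ S.U → σ y ∈ S.Z → ⁅x * x', y⁆ = ⁅x', y⁆ * ⁅x, y⁆ := fun x x' y hx hy => by
    calc ⁅x * x', y⁆ = x * ⁅x', y⁆ * x⁻¹ * ⁅x, y⁆ := by simp only [commutatorElement_def]; group
      _ = _ := by rw [mem_center_iff.1 (hc x' y hx hy), mul_inv_cancel_right]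
  have hr : ∀ x y y', σ x ∈ S.U → σ y' ∈ S.Z → ⁅x, y * y'⁆ = ⁅x, y⁆ * ⁅x, y'⁆ := fun x y y' hx hy => by
    calc ⁅x, y * y'⁆ = ⁅x, y⁆ * (y * ⁅x, y'⁆ * y⁻¹) := by simp only [commutatorElement_def]; group
      _ = _ := by rw [mem_center_iff.1 (hc x y' hx hy), mul_inv_cancel_right]
  let γ : F → F → Γ := fun a b => ⁅s (S.u a 0), s (S.u 0 b)⁆
  have sU : ∀ a b, σ (s (S.u a b)) ∈ S.U := fun a b => by rw [hs']; exact S.u_mem_U a b
  have sZ : ∀ b, σ (s (S.u 0 b)) ∈ S.Z := fun b => by rw [hs']; exact S.u_mem_Z b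
  have h1 : ∀ x y a d b, σ x = S.u a d → σ y = S.u 0 b → ⁅x, y⁆ = γ a b := fun x y a d b hx hy => by
    rw [commutatorElement_eq_of_ker_le hσ (x' := s (S.u 0 d) * s (S.u a 0)) (y' := s (S.u 0 b))
      (by rw [hx, map_mul, hs', hs', u_mul]; simp) (by rw [hy, hs']), hl _ _ _ (sU _ _) (sZ _),
      hZ _ _ (sZ _) (sZ _), mul_one]
  have h2 : ∀ a a' b, γ (a + a') b = γ a b * γ a' b := fun a a' b => by
    rw [← hl _ _ _ (sU _ _) (sZ _)]
    exact (h1 _ _ _ _ _ (by rw [map_mul, hs', hs', u_mul, add_comm]) (hs' _)).symm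
  have h3 : ∀ a b b', γ a (b + b') = γ a b * γ a b' := fun a b b' => by
    rw [← hr _ _ _ (sU _ _) (sZ _)]
    exact (h1 _ _ _ _ _ (hs' _) (by rw [map_mul, hs', hs', u_zero_mul])).symm
  have h4 : ∀ k b, k ≠ 0 → γ k b = γ 1 ((k * S.θ k)⁻¹ * b) := fun k b hk => by
    let t := s (S.h (Units.mk0 k hk))
    have hk' : k * S.θ k ≠ 0 := mul_ne_zero hk ((map_ne_zero _).2 hk)
    rw [← h1 (t * s (S.u 1 0) * t⁻¹) (t * s (S.u 0 ((k * S.θ k)⁻¹ * b)) * t⁻¹) k 0 b
      (by simp only [t, map_mul, map_inv, hs', h_conj_u, Units.val_mk0, mul_zero, mul_one])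
      (by simp only [t, map_mul, map_inv, hs', h_conj_u, Units.val_mk0, mul_zero, mul_inv_cancel_left₀ hk']),
      ← conjugate_commutatorElement, mem_center_iff.1 (hc _ _ (sU _ _) (sZ _)), mul_inv_cancel_right]
  have h0 : γ 1 0 = 1 := by
    have := h3 1 0 0
    rw [add_zero] at this
    exact left_eq_mul.1 this
  have h5 : ∀ b, γ 1 b = 1 := fun b => by
    obtain ⟨a, ha0, ha1, ha⟩ := S.exists_delta_ne_zero hm
    obtain ⟨c, rfl⟩ : ∃ c, b = (((1 + a) * S.θ (1 + a))⁻¹ + (1 + (a * S.θ a)⁻¹)) * c :=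
      ⟨_, (mul_inv_cancel_left₀ ha b).symm⟩
    rw [add_mul, add_mul 1 (a * S.θ a)⁻¹, one_mul, h3, h3, ← h4 _ _ ha0, ← h2, ← h4 _ _ ha1, ← h3, CharTwo.add_self_eq_zero,
      h4 _ _ ha1, mul_zero, h0]
  obtain ⟨a, d, hx⟩ := hx
  obtain ⟨b, hy⟩ := hy
  by_cases ha : a = 0
  · exact hZ _ _ (by rw [hx, ha]; exact S.u_mem_Z _) ⟨b, hy⟩
  · rw [h1 _ _ _ _ _ hx hy, h4 _ _ ha, h5]

theorem eq_one_of_mem_commutator_comap_U (hm : 2 ≤ S.m) {a : Γ} (ha : a ∈ σ.ker)
    (h : a ∈ ⁅S.U.comap σ, S.U.comap σ⁆) : a ^ (S.q - 1) = 1 := by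
  classical
  haveI := S.charP
  haveI := S.finiteF
  letI := Fintype.ofFinite Fˣ
  have hZ := fun x y => S.comm_of_mem_comap_U_Z hs hσ hm (x := x) (y := y)
  choose s hs' using hs
  have hZ' : ∀ x y, σ x ∈ S.U → σ y ∈ S.Z → x * y * x⁻¹ = y := fun x y hx hy => by
    rw [commutatorElement_eq_one_iff_mul_comm.1 (hZ x y hx hy), mul_inv_cancel_right]
  let T := S.Z.comap σ
  letI : CommGroup T := { (inferInstance : Group T) with
    mul_comm := fun x y => Subtype.ext (commutatorElement_eq_one_iff_mul_comm.1 (hZ _ _ (S.Z_le_U x.2) y.2)) }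
  let φ : Fˣ → T →* T := fun k => MonoidHom.mk' (fun x => ⟨s (S.h k) * x * (s (S.h k))⁻¹, by
    change σ _ ∈ S.Z
    rw [map_mul, map_mul, map_inv, hs']
    exact S.conj_mem_Z (S.h_smul_inf k) x.2⟩) fun x y => Subtype.ext (by
      simp only [Subgroup.coe_mul]; group)
  have hφ : ∀ k (x : T), (φ k x : Γ) = s (S.h k) * x * (s (S.h k))⁻¹ := fun _ _ => rfl
  have hφφ : ∀ k l x, φ k (φ l x) = φ (k * l) x := fun k l x => Subtype.ext (by
    have h1 := commutatorElement_eq_of_ker_le hσ (x := s (S.h k) * s (S.h l)) (x' := s (S.h (k * l)))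
      (y := (x : Γ)) (y' := x) (by simp only [map_mul, hs']) rfl
    rw [hφ, hφ, hφ]
    calc _ = ⁅s (S.h k) * s (S.h l), (x : Γ)⁆ * x := by rw [commutatorElement_def]; group
      _ = _ := by rw [h1, commutatorElement_def]; group)
  let ν : T →* T := ∏ k, φ k
  have hν : ∀ x, ν x = ∏ k, φ k x := fun x => MonoidHom.finsetProd_apply _ _ _
  have hνφ : ∀ l x, ν (φ l x) = ν x := fun l x => by
    rw [hν, hν]
    simp only [hφφ]
    exact Fintype.prod_equiv (Equiv.mulRight l) _ _ fun _ => rfl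
  have hc : ∀ x y, σ x ∈ S.U → σ y ∈ S.U → ⁅x, y⁆ ∈ T := fun x y hx hy => by
    change σ _ ∈ S.Z
    rw [map_commutatorElement, ← commutator_U_U]
    exact commutator_mem_commutator hx hy
  have hl : ∀ x x' y, σ x ∈ S.U → σ x' ∈ S.U → σ y ∈ S.U → ⁅x * x', y⁆ = ⁅x', y⁆ * ⁅x, y⁆ :=
    fun x x' y hx hx' hy => by
    calc ⁅x * x', y⁆ = x * ⁅x', y⁆ * x⁻¹ * ⁅x, y⁆ := by simp only [commutatorElement_def]; group
      _ = _ := by rw [hZ' _ _ hx (hc _ _ hx' hy)]
  have hr : ∀ x y y', σ x ∈ S.U → σ y ∈ S.U → σ y' ∈ S.U → ⁅x, y * y'⁆ = ⁅x, y⁆ * ⁅x, y'⁆ :=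
    fun x y y' hx hy hy' => by
    calc ⁅x, y * y'⁆ = ⁅x, y⁆ * (y * ⁅x, y'⁆ * y⁻¹) := by simp only [commutatorElement_def]; group
      _ = _ := by rw [hZ' _ _ hy (hc _ _ hx hy')]
  have sU : ∀ a b, σ (s (S.u a b)) ∈ S.U := fun a b => by rw [hs']; exact S.u_mem_U a b
  have sZ : ∀ b, σ (s (S.u 0 b)) ∈ S.Z := fun b => by rw [hs']; exact S.u_mem_Z b
  let κ : F → F → T := fun a c => ⟨⁅s (S.u a 0), s (S.u c 0)⁆, hc _ _ (sU _ _) (sU _ _)⟩
  have h1 : ∀ x y a b c d, σ x = S.u a b → σ y = S.u c d → ⁅x, y⁆ = κ a c := fun x y a b c d hx hy => by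
    rw [commutatorElement_eq_of_ker_le hσ (x' := s (S.u 0 b) * s (S.u a 0)) (y' := s (S.u c 0) * s (S.u 0 d))
      (by rw [hx, map_mul, hs', hs', u_mul]; simp) (by rw [hy, map_mul, hs', hs', u_mul]; simp),
      hl _ _ _ (sU _ _) (sU _ _) (by rw [map_mul]; exact mul_mem (sU _ _) (sU _ _)),
      ← commutatorElement_inv _ (s (S.u 0 b)),
      hZ _ _ (by rw [map_mul]; exact mul_mem (sU _ _) (sU _ _)) (sZ b), inv_one, mul_one,
      hr _ _ _ (sU _ _) (sU _ _) (sU _ _), hZ _ _ (sU _ _) (sZ d), mul_one]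
  have h2 : ∀ a c, ν (κ a c) = 1 := by
    refine S.alternating_eq_one (fun a c => ν (κ a c)) (fun a b c => ?_) (fun a b c => ?_) (fun a => ?_)
      fun k a b hk => ?_
    · rw [← map_mul]
      congr 1
      apply Subtype.ext
      rw [← h1 (s (S.u b 0) * s (S.u a 0)) (s (S.u c 0)) _ _ _ _ (by rw [map_mul, hs', hs', u_mul, add_comm])
        (hs' _), hl _ _ _ (sU _ _) (sU _ _) (sU _ _)]
      rfl
    · rw [← map_mul]
      congr 1
      apply Subtype.ext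
      rw [← h1 (s (S.u a 0)) (s (S.u b 0) * s (S.u c 0)) _ _ _ _ (hs' _) (by rw [map_mul, hs', hs', u_mul]),
        hr _ _ _ (sU _ _) (sU _ _) (sU _ _)]
      rfl
    · rw [← map_one ν]
      congr 1
      exact Subtype.ext (commutatorElement_self _)
    · rw [← hνφ (Units.mk0 k hk) (κ a b)]
      congr 1
      apply Subtype.ext
      rw [hφ, conjugate_commutatorElement]
      exact (h1 _ _ _ _ _ _ (by simp only [map_mul, map_inv, hs', h_conj_u, Units.val_mk0]; rfl)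
        (by simp only [map_mul, map_inv, hs', h_conj_u, Units.val_mk0]; rfl)).symm
  have h3 : ⁅S.U.comap σ, S.U.comap σ⁆ ≤ ν.ker.map T.subtype := by
    rw [commutator_le]
    rintro x ⟨a, b, hx⟩ y ⟨c, d, hy⟩
    exact ⟨κ a c, h2 a c, (h1 _ _ _ _ _ _ hx hy).symm⟩
  obtain ⟨x, hx, rfl⟩ := h3 h
  have h4 : ∀ k, φ k x = x := fun k => Subtype.ext (by
    have e : s (S.h k) * x = x * s (S.h k) := mem_center_iff.1 (hσ ha) _
    rw [hφ, e, mul_inv_cancel_right])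
  have h5 : ν x = x ^ (S.q - 1) := by
    rw [hν]
    simp only [h4]
    rw [Finset.prod_const, Finset.card_univ, ← Nat.card_eq_fintype_card, S.card_units]
  rw [← map_pow, ← h5, MonoidHom.mem_ker.1 hx, map_one]

end Stem

theorem ker_eq_bot_of_stem (hm : 2 ≤ S.m) {Γ : Type*} [Group Γ] [Finite Γ] (σ : Γ →* G)
    (hσ : Cfsg.IsStemExtension σ) : σ.ker = ⊥ := by
  haveI := S.finiteG
  refine ker_eq_bot_of_forall_prime hσ fun p hp => ?_
  haveI : Fact p.Prime := ⟨hp⟩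
  by_cases h2 : p = 2
  · subst h2
    obtain ⟨P, hP⟩ := S.exists_sylow_eq_U
    refine ⟨S.U, hP ▸ P.not_dvd_index, fun a ha h h' => ?_⟩
    have h3 := S.eq_one_of_mem_commutator_comap_U hσ.1 hσ.2.1 hm ha h
    obtain ⟨c, hc⟩ := S.odd_q_sub_one
    rwa [hc, pow_succ, pow_mul, h', one_pow, one_mul] at h3
  · obtain ⟨P⟩ : Nonempty (Sylow p G) := inferInstance
    refine ⟨P, P.not_dvd_index, fun a _ h _ => ?_⟩
    rwa [commutator_comap_eq_bot_of_isCyclic hσ.2.1 (S.isCyclic_of_isPGroup h2 P.isPGroup'), mem_bot] at h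

end SzData

end Cfsg.Agent.H13
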