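import Mathlib
import Cfsg.Agent.H13.Folds
import Cfsg.Agent.H12.RS3
import Cfsg.Agent.H12.RGD3

/-!
The Weyl groups of types `I₂(8)` and `A₁`; two-parameter order formulas.
-/

set_option autoImplicit false
set_option maxRecDepth 100000
set_option linter.unusedSectionVars false

namespace Cfsg.Agent.H13

open Cfsg.Agent.H12 Cfsg.Lie

section Gen

variable {Φ I k : Type*} [DecidableEq I] [CommRing k] [LinearOrder k] [IsStrictOrderedRing k]
  [Fintype I] [Finite Φ] {R : RS Φ I k}

theorem lm_wprod {M : Type*} [CommSemiring M] {c : I → M} {f : R.W → M} (hf : R.LM c f)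
    (a : List I) (h : ∀ n < a.length, ∀ i ∈ a[n]?,
      R.Pos ((a.drop (n + 1)).reverse.foldr R.sref (R.simple i))) :
    f (wprod R.s a) = (a.map c).prod := by
  induction a with
  | nil => exact hf.one
  | cons i a ih =>
    rw [wprod_cons, hf.step, ih fun n hn j hj => h (n + 1) (by simpa using hn) j hj, List.map_cons,
      List.prod_cons]
    rw [← wprod_reverse R.s_mul_s, wprod_smul]
    exact h 0 (by simp) i rfl

theorem lm_finsum_words {M : Type*} [CommSemiring M] {c : I → M} {f : R.W → M} (hf : R.LM c f)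
    (L : List (List I)) (h0 : [] ∈ L)
    (h1 : ∀ a ∈ L, ∀ n < a.length, ∀ i ∈ a[n]?,
      R.Pos ((a.drop (n + 1)).reverse.foldr R.sref (R.simple i)))
    (h2 : L.Pairwise fun a b => ∃ j, a.foldr R.sref (R.simple j) ≠ b.foldr R.sref (R.simple j))
    (h3 : ∀ a ∈ L, ∀ i, ∃ b ∈ L, ∀ j,
      R.sref i (a.foldr R.sref (R.simple j)) = b.foldr R.sref (R.simple j)) :
    ∑ᶠ w, f w = (L.map fun a => (a.map c).prod).sum := by
  classical
  have := Fintype.ofFinite R.W
  have hnd : (L.map (wprod R.s)).Nodup := List.pairwise_map.2 (h2.imp fun ⟨j, hj⟩ e =>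
    hj (by rw [← wprod_smul, ← wprod_smul, e]))
  have hall : ∀ w, w ∈ L.map (wprod R.s) := by
    intro w
    induction w using R.W_induction with
    | one => exact List.mem_map.2 ⟨[], h0, rfl⟩
    | step i w ih =>
      obtain ⟨a, ha, rfl⟩ := List.mem_map.1 ih
      obtain ⟨b, hb, e⟩ := h3 a ha i
      exact List.mem_map.2 ⟨b, hb, R.W_ext_simple fun j => by
        rw [mul_smul, wprod_smul, wprod_smul, RS.s_smul, e]⟩
  rw [finsum_eq_sum_of_fintype, ← Finset.eq_univ_of_forall fun w => List.mem_toFinset.2 (hall w),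
    List.sum_toFinset _ hnd, List.map_map]
  exact congrArg _ (List.map_congr_left fun a ha => lm_wprod hf a (h1 a ha))

variable {G : Type*} [Group G] {X : RGD R G}

theorem card_U_eq {x y : ℕ} (l : Φ → Bool) (hl : ∀ i r, l (R.sref i r) = l r)
    (hs : ∀ i, Nat.card (X.U (R.simple i)) = if l (R.simple i) then x else y) (r : Φ) :
    Nat.card (X.U r) = if l r then x else y := by
  induction r using R.root_induction with
  | simple i => exact hs i
  | step i r ih => rw [hl, ← ih, ← RS.s_smul, RGD.card_U_smul]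

theorem card_US_eq [Fintype Φ] {x y : ℕ} (l : Φ → Bool)
    (hs : ∀ r, Nat.card (X.U r) = if l r then x else y) {S : Set Φ} (hS : R.Closed S)
    (hpos : ∀ r ∈ S, R.Pos r) (P : Φ → Bool) (hP : ∀ r, r ∈ S ↔ P r = true) :
    Nat.card (X.US S) = x ^ (Finset.univ.filter fun r => P r = true ∧ l r = true).card *
      y ^ (Finset.univ.filter fun r => P r = true ∧ ¬ l r = true).card := by
  have e : S = ↑(Finset.univ.filter fun r => P r = true) := by ext r; simp [hP]
  rw [RGD.card_US hS hpos, e, finprod_mem_coe_finset, Finset.prod_congr rfl fun r _ => hs r,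
    Finset.prod_ite, Finset.prod_const, Finset.prod_const, Finset.filter_filter,
    Finset.filter_filter]

theorem card_grp [Finite X.B] :
    Nat.card X.grp = Nat.card X.Up * Nat.card X.T * ∑ᶠ w : R.W, Nat.card (X.US (R.invSet w)) := by
  rw [← RGD.PJ_univ, RGD.card_PJ, RGD.card_B,
    RS.finsum_WJ_univ fun w => Nat.card (X.US (R.invSet w))]

end Gen

/-! ### `A₁` -/

theorem finsum_A1 {M : Type*} [CommSemiring M] {c : Unit → M} {f : rsA1.W → M}
    (hf : rsA1.LM c f) : ∑ᶠ w, f w = 1 + c () := by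
  rw [lm_finsum_words hf [[], [()]] (by simp) (by simp only [rsA1_pos]; decide) (by decide)
    (by decide)]
  simp

theorem rsA1_irred : rsA1.Irred := fun J ⟨_, hi⟩ ⟨_, hj⟩ => absurd hi hj

theorem card_W_A1 : Nat.card rsA1.W = 2 := by
  have := finsum_A1 (RS.lm_len (R := rsA1) (1 : ℕ))
  have h := Fintype.ofFinite rsA1.W
  simpa [finsum_eq_sum_of_fintype] using this

theorem nonempty_equiv_A1 : Nonempty (rsA1.W ≃* Multiplicative (ZMod 2)) :=
  haveI : Fact (Nat.Prime 2) := ⟨Nat.prime_two⟩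
  ⟨mulEquivOfPrimeCardEq card_W_A1 (by simp)⟩

/-! ### `I₂(8)` -/

instance instDecPosI8 (r : Fin 16) : Decidable (rsI8.Pos r) := decidable_of_iff _ rsI8_pos.symm

theorem rsI8_sref_eq : rsI8.sref = fun i r => (if i = 0 then 8 else 6) - r := rfl

theorem finsum_I8 {M : Type*} [CommSemiring M] {c : Fin 2 → M} {f : rsI8.W → M}
    (hf : rsI8.LM c f) : ∑ᶠ w, f w = (1 + c 0) * (1 + c 1) * (1 + c 0 * c 1) *
      (1 + (c 0 * c 1) ^ 2) := by
  rw [lm_finsum_words hf [[], [0], [1], [1, 0], [0, 1], [0, 1, 0], [1, 0, 1], [1, 0, 1, 0],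
    [0, 1, 0, 1], [0, 1, 0, 1, 0], [1, 0, 1, 0, 1], [1, 0, 1, 0, 1, 0], [0, 1, 0, 1, 0, 1],
    [0, 1, 0, 1, 0, 1, 0], [1, 0, 1, 0, 1, 0, 1], [1, 0, 1, 0, 1, 0, 1, 0]] (by simp)
    (by simp only [rsI8_pos, rsI8_sref_eq, rsI8_simple]; decide +kernel)
    (by simp only [rsI8_sref_eq, rsI8_simple]; decide +kernel)
    (by simp only [rsI8_sref_eq, rsI8_simple]; decide +kernel)]
  simp only [List.map_cons, List.map_nil, List.prod_cons, List.prod_nil, List.sum_cons,
    List.sum_nil]
  ring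

theorem rsI8_irred : rsI8.Irred := by
  have h : ∀ i j : Fin 2, rsI8.co i (Pi.single j 1) ≠ 0 := fun i j => by
    change Fintype.linearCombination ℝ _ _ ≠ 0
    rw [r2_single, i8_co, ← map_zero r2, r2_injective.ne_iff]
    revert i j; decide +kernel
  exact fun J ⟨i, hi⟩ ⟨j, hj⟩ => ⟨i, hi, j, hj, h i j⟩

/-- the action of the dihedral group on the roots -/
noncomputable def dihAct (g : DihedralGroup 8) (j : Fin 16) : Fin 16 :=
  DihedralGroup.rec (fun i => j + 2 * Fin.ofNat 16 i.val) (fun i => 8 - j - 2 * Fin.ofNat 16 i.val) g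

theorem dihAct_mul : ∀ g h : DihedralGroup 8, ∀ j, dihAct (g * h) j = dihAct g (dihAct h j) := by
  decide +kernel

theorem dihAct_one : ∀ j, dihAct 1 j = j := by decide +kernel

/-- the dihedral group as a permutation group of the roots -/
noncomputable def dihHom : DihedralGroup 8 →* Equiv.Perm (Fin 16) :=
  MonoidHom.mk' (fun g => ⟨dihAct g, dihAct g⁻¹,
    fun j => by rw [← dihAct_mul, inv_mul_cancel, dihAct_one],
    fun j => by rw [← dihAct_mul, mul_inv_cancel, dihAct_one]⟩)
    fun g h => Equiv.ext (dihAct_mul g h)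

theorem nonempty_equiv_I8 : Nonempty (rsI8.W ≃* DihedralGroup 8) := by
  have hinj : Function.Injective dihHom := by
    rw [injective_iff_map_eq_one]
    have : ∀ g : DihedralGroup 8, (∀ j, dihAct g j = j) → g = 1 := by decide +kernel
    exact fun g hg => this g fun j => Equiv.congr_fun hg j
  have h0 : dihHom (.sr 0) = rsI8.sp 0 := Equiv.ext (by
    change ∀ j, dihAct (.sr 0) j = rsI8.sref 0 j; simp only [rsI8_sref]; decide +kernel)
  have h1 : dihHom (.sr 1) = rsI8.sp 1 := Equiv.ext (by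
    change ∀ j, dihAct (.sr 1) j = rsI8.sref 1 j; simp only [rsI8_sref]; decide +kernel)
  have hr : dihHom.range = rsI8.W := by
    refine le_antisymm ?_ ((Subgroup.closure_le _).2 ?_)
    · rintro _ ⟨g, rfl⟩
      have : ∀ g : DihedralGroup 8, ∃ n : Fin 8, g = (.sr 0 * .sr 1) ^ n.1 ∨
        g = .sr 0 * (.sr 0 * .sr 1) ^ n.1 := by decide +kernel
      have a0 := (rsI8.s 0).2
      have a1 := (rsI8.s 1).2
      obtain ⟨n, rfl | rfl⟩ := this g <;> simp only [map_mul, map_pow, h0, h1]
      · exact pow_mem (mul_mem a0 a1) _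
      · exact mul_mem a0 (pow_mem (mul_mem a0 a1) _)
    · rintro _ ⟨i, rfl⟩
      fin_cases i
      exacts [⟨_, h0⟩, ⟨_, h1⟩]
  exact ⟨((MonoidHom.ofInjective hinj).trans (MulEquiv.subgroupCongr hr)).symm⟩

end Cfsg.Agent.H13
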