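import Mathlib
import Cfsg.Agent.H29.Maz
import Cfsg.Agent.JR.Spec
import Cfsg.Agent.FT.BG03a

/-!
A solvable group of odd order and squarefree exponent cannot have four primes that are pairwise
joined while no three of them divide the order of one element.
-/

set_option autoImplicit false
set_option linter.unusedSectionVars false
set_option linter.unusedVariables false

namespace Cfsg.Agent.H13.JJ
open Subgroup hiding one
open Cfsg.Agent.FT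
open scoped commutatorElement

universe u
variable {G : Type u} [Group G] [Finite G] {σ : Finset ℕ} {p q r s u w : ℕ} {x y z m : G}
  {A B D H K L M P Q R V W X : Subgroup G}

/-- three pairwise non-adjacent primes in a solvable subgroup -/
theorem sol3 (hs : Sol M) (hp : p.Prime) (hq : q.Prime) (hr : r.Prime) (n1 : p ≠ q) (n2 : p ≠ r)
    (n3 : q ≠ r) (d1 : p ∣ #M) (d2 : q ∣ #M) (d3 : r ∣ #M)
    (e : ∀ a ∈ M, ∀ b ∈ M, a * b = b * a → orderOf a ∈ ({p, q, r} : Set ℕ) →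
      orderOf b ∈ ({p, q, r} : Set ℕ) → orderOf a = orderOf b) : False := by
  have key : ∀ a b : ℕ, a.Prime → b.Prime → a ≠ b → a ∈ ({p, q, r} : Set ℕ) → b ∈ ({p, q, r} : Set ℕ) →
      ∀ g : M, orderOf g ≠ a * b := fun a b ha hb n h1 h2 g hg => by
    obtain ⟨i, hi⟩ := H29.ord_of_dvd (x := g) (n := a) (hg ▸ dvd_mul_right a b)
    obtain ⟨j, hj⟩ := H29.ord_of_dvd (x := g) (n := b) (hg ▸ dvd_mul_left b a)
    rw [← orderOf_coe] at hi hj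
    have := e _ (g ^ i).2 _ (g ^ j).2 (congrArg Subtype.val (pow_mul_comm g i j)) (hi ▸ h1) (hj ▸ h2)
    exact n (hi ▸ hj ▸ this)
  have c : #(⊤ : Subgroup M) = #M := card_top'
  exact H29.sol_three (M := (⊤ : Subgroup M)) (sol_top.2 hs) hp hq hr n1 n2 n3 (c ▸ d1) (c ▸ d2)
    (c ▸ d3) (key p q hp hq n1 (by simp) (by simp)) (key p r hp hr n2 (by simp) (by simp))
    (key q r hq hr n3 (by simp) (by simp))

/-- elements whose commutators with `R` lie in `X` -/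
def cm (X R : Subgroup G) (h : ⊤ ≤ N(X)) : Subgroup G where
  carrier := {g | ∀ a ∈ R, ⁅g, a⁆ ∈ X}
  one_mem' a _ := by simp
  mul_mem' {g k} hg hk a ha := by
    rw [show ⁅g * k, a⁆ = g * ⁅k, a⁆ * g⁻¹ * ⁅g, a⁆ by simp only [commutatorElement_def]; group]
    exact mul_mem (conj_mem (h trivial) (hk a ha)) (hg a ha)
  inv_mem' {g} hg a ha := by
    rw [show ⁅g⁻¹, a⁆ = g⁻¹ * ⁅g, a⁆⁻¹ * g⁻¹⁻¹ by simp only [commutatorElement_def]; group]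
    exact conj_mem (h trivial) (inv_mem (hg a ha))

theorem le_or_le (h : ∀ g ∈ B, g ∈ X ∨ g ∈ D) : B ≤ X ∨ B ≤ D := by
  by_contra! hc
  obtain ⟨a, ha, a1⟩ := SetLike.not_le_iff_exists.1 hc.1
  obtain ⟨b, hb, b1⟩ := SetLike.not_le_iff_exists.1 hc.2
  rcases h _ (mul_mem ha hb) with e | e
  · exact a1 ((mul_mem_cancel_right ((h b hb).resolve_right b1)).1 e)
  · exact b1 ((mul_mem_cancel_left ((h a ha).resolve_left a1)).1 e)

structure Cx (σ : Finset ℕ) (G : Type u) [Group G] : Prop where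
  sol : Sol (⊤ : Subgroup G)
  odd : Odd (Nat.card G)
  four : σ.card = 4
  pr : ∀ p ∈ σ, p.Prime
  pi : ∀ p, p.Prime → p ∣ Nat.card G → p ∈ σ
  nt : ∀ x y z : G, (orderOf x).Prime → (orderOf y).Prime → (orderOf z).Prime → orderOf x ≠ orderOf y →
    orderOf x ≠ orderOf z → orderOf y ≠ orderOf z → x * y = y * x → x * z = z * x → y * z = z * y → False
  sq : ∀ (x : G) (p : ℕ), p.Prime → PiElt {p} x → x ^ p = 1
  adj : ∀ p ∈ σ, ∀ q ∈ σ, p ≠ q → ∃ x y : G, orderOf x = p ∧ orderOf y = q ∧ x * y = y * x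

namespace Cx
variable (h : Cx σ G)
include h

theorem sub (M : Subgroup G) (ha : ∀ p ∈ σ, ∀ q ∈ σ, p ≠ q →
    ∃ x ∈ M, ∃ y ∈ M, orderOf x = p ∧ orderOf y = q ∧ x * y = y * x) : Cx σ M where
  sol := sol_top.2 (h.sol.mono le_top)
  odd := h.odd.of_dvd_nat (card_subgroup_dvd_card M)
  four := h.four
  pr := h.pr
  pi p hp hd := h.pi p hp (hd.trans (card_subgroup_dvd_card M))
  nt x y z := by
    simp only [← orderOf_coe, Subtype.ext_iff, coe_mul]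
    exact h.nt x y z
  sq x p hp hx := Subtype.ext (h.sq x p hp (by rwa [PiElt, orderOf_coe]))
  adj p hp q hq n :=
    let ⟨x, hx, y, hy, e1, e2, e3⟩ := ha p hp q hq n
    ⟨⟨x, hx⟩, ⟨y, hy⟩, by rw [← orderOf_coe, e1], by rw [← orderOf_coe, e2], Subtype.ext e3⟩

theorem sl (M : Subgroup G) : Sol M := h.sol.mono le_top

theorem o (M : Subgroup G) : Odd #M := h.odd.of_dvd_nat (card_subgroup_dvd_card M)

theorem ord (hp : p.Prime) (hP : PGrp p P) (hx : x ∈ P) (h1 : x ≠ 1) : orderOf x = p :=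
  orderOf_eq_prime (hp := ⟨hp⟩) (h.sq x p hp (hP.piElt hx)) h1

theorem cyc_card (hp : p.Prime) (hP : PGrp p P) (hc : Cyc P) (h1 : P ≠ ⊥) : #P = p :=
  Nat.dvd_antisymm (hc.card_dvd_of_pow fun x hx => h.sq x p hp (hP.piElt hx)) (hP.dvd h1)

theorem nt' (hp : p.Prime) (hq : q.Prime) (hr : r.Prime) (n1 : p ≠ q) (n2 : p ≠ r) (n3 : q ≠ r)
    (hx : orderOf x = p) (hy : orderOf y = q) (hz : orderOf z = r) (c1 : x ∈ C[y]) (c2 : x ∈ C[z])
    (c3 : y ∈ C[z]) : False := by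
  subst hx hy hz
  exact h.nt x y z hp hq hr n1 n2 n3 (mem_cen1.1 c1) (mem_cen1.1 c2) (mem_cen1.1 c3)

theorem luc (hu : u.Prime) (hx : orderOf x = u) (hp : p.Prime) (hq : q.Prime) (hr : r.Prime) (n1 : p ≠ q)
    (n2 : p ≠ r) (n3 : q ≠ r) (m1 : u ≠ p) (m2 : u ≠ q) (m3 : u ≠ r) (d1 : p ∣ #C[x]) (d2 : q ∣ #C[x])
    (d3 : r ∣ #C[x]) : False :=
  sol3 (h.sl _) hp hq hr n1 n2 n3 d1 d2 d3 fun a ha b hb c h1 h2 => by
    by_contra n
    have k : ∀ n ∈ ({p, q, r} : Set ℕ), n.Prime ∧ u ≠ n := by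
      rintro n (rfl | rfl | rfl) <;> exact ⟨‹_›, ‹_›⟩
    exact h.nt' hu (k _ h1).1 (k _ h2).1 (k _ h1).2 (k _ h2).2 n hx rfl rfl (cen1_comm.1 ha) (cen1_comm.1 hb)
      (mem_cen1.2 c)

theorem others (hp : p ∈ σ) (hq : q ∈ σ) (n : p ≠ q) : ∃ r ∈ σ, ∃ s ∈ σ, p ≠ r ∧ p ≠ s ∧ q ≠ r ∧ q ≠ s ∧
    r ≠ s ∧ ∀ t ∈ σ, t = p ∨ t = q ∨ t = r ∨ t = s := by
  have c : ((σ.erase p).erase q).card = 2 := by
    rw [Finset.card_erase_of_mem (Finset.mem_erase.2 ⟨n.symm, hq⟩), Finset.card_erase_of_mem hp, h.four]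
  obtain ⟨r, s, rs, e⟩ := Finset.card_eq_two.1 c
  have k : ∀ t, t ≠ q ∧ t ≠ p ∧ t ∈ σ ↔ t = r ∨ t = s := fun t => by
    simpa using Finset.ext_iff.1 e t
  have h1 := (k r).2 (Or.inl rfl)
  have h2 := (k s).2 (Or.inr rfl)
  refine ⟨r, h1.2.2, s, h2.2.2, h1.2.1.symm, h2.2.1.symm, h1.1.symm, h2.1.symm, rs, fun t ht => ?_⟩
  by_cases a : t = p
  · exact Or.inl a
  by_cases b : t = q
  · exact Or.inr (Or.inl b)
  exact Or.inr (Or.inr ((k t).1 ⟨b, a, ht⟩))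

theorem other (hp : p ∈ σ) : ∃ q ∈ σ, p ≠ q := by
  obtain ⟨q, hq, n⟩ := Finset.exists_mem_ne (by rw [h.four]; norm_num) p
  exact ⟨q, hq, n.symm⟩

/-- Sylow subgroups are not cyclic -/
theorem ncyc (hu : u ∈ σ) (hP : Syl u P ⊤) : ¬ Cyc P := fun hc => by
  have pu := h.pr u hu
  obtain ⟨p, hp, n⟩ := h.other hu
  obtain ⟨q, hq, r, hr, n1, n2, n3, n4, n5, -⟩ := h.others hu hp n
  obtain ⟨x, -, hx, -⟩ := h.adj u hu p hp n
  have h2 : ¬ u * u ∣ Nat.card G := fun e => by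
    have e1 := FT.card_mul_relIndex hP.le
    have P1 : P ≠ ⊥ := fun e2 => (hP.syl_eq_bot_iff pu).1 e2 (card_top' (G := G) ▸ (dvd_mul_right u u).trans e)
    rw [h.cyc_card pu hP.pi hc P1, card_top'] at e1
    exact hP.not_dvd pu ((Nat.mul_dvd_mul_iff_left pu.pos).1 (e1 ▸ e))
  have key : ∀ t ∈ σ, u ≠ t → t ∣ #C[x] := fun t ht nt => by
    obtain ⟨a, b, ha, hb, c⟩ := h.adj u hu t ht nt
    exact hb ▸ JR.cen_swap pu hx h2 (ha ▸ orderOf_dvd_card' (mem_cen1.2 c))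
  exact h.luc pu hx (h.pr p hp) (h.pr q hq) (h.pr r hr) n3 n4 n5 n n1 n2 (key p hp n) (key q hq n1) (key r hr n2)

theorem exAb (hu : u.Prime) (hP : PGrp u P) (hc : ¬ Cyc P) : ∃ B, B ≤ P ∧ Z(P) ≤ B ∧ Ab B ∧ ¬ Cyc B := by
  by_cases hz : Cyc Z(P)
  swap
  · exact ⟨_, inf_le_left, le_rfl, ab_center P, hz⟩
  obtain ⟨x, hx, x1⟩ := SetLike.not_le_iff_exists.1 (fun e : P ≤ Z(P) => hc (hz.mono e))
  have hle : Z(P) ⊔ ⟪x⟫ ≤ P := sup_le inf_le_left (zpowers_le.2 hx)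
  refine ⟨_, hle, le_sup_left, (ab_center P).sup (ab_zpowers x)
    (centsC (inf_le_right.trans (cen_anti (zpowers_le.2 hx)))), fun e => x1 ?_⟩
  have P1 : P ≠ ⊥ := fun e => hc (e ▸ cyc_bot)
  have Z1 := hP.center_ne_bot P1
  have := eq_of_le_prime (by rw [h.cyc_card hu (hP.mono hle) e (ne_bot_of_le le_sup_left Z1)]; exact hu)
    (le_sup_left (b := ⟪x⟫)) Z1
  exact this.ge (mem_sup_right (mem_zpowers x))

/-- an abelian non-cyclic `u`-subgroup of `L` containing a given cyclic normal one -/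
theorem exB (hu : u ∈ σ) (hL : PiNat {u}ᶜ (L.relIndex ⊤)) (hX : PGrp u X) (hn : X ⊴ L) (hc : Cyc X) :
    ∃ B, B ≤ L ∧ X ≤ B ∧ PGrp u B ∧ Ab B ∧ ¬ Cyc B := by
  have pu := h.pr u hu
  obtain ⟨P, hP⟩ := exists_syl u L
  obtain ⟨B, h1, h2, h3, h4⟩ := h.exAb pu hP.pi (h.ncyc hu (hP.of_relIndex le_top hL))
  refine ⟨B, h1.trans hP.le, le_trans ?_ h2, hP.pi.mono h1, h3, h4⟩
  by_cases X1 : X = ⊥
  · exact X1.le.trans bot_le
  have hle := hP.ge_of_nml hX hn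
  exact hP.pi.nil.le_center_of_prime ⟨hle, hP.le.trans hn.nrm⟩ (h.cyc_card pu hX hc X1 ▸ pu)

theorem lemF (hu : u.Prime) (hy : orderOf y = u) (hK : PiGrp {u}ᶜ K) (hn : y ∈ N(K)) (hKX : K ≤ N(X))
    (hyX : y ∈ N(X)) (c1 : Cop X K) (c2 : PiGrp {u}ᶜ X) (h1 : X ⊓ C[y] = ⊥) : ∀ a ∈ K, ⁅y, a⁆ ∈ K ⊓ C(X) := by
  have hy' : #⟪y⟫ = u := by rw [card_zpowers', hy]
  have py := pGrp_of_card_prime hu hy'
  have cK := hK.cop' py
  have := odd_prime_sdprod_cent1 (sd_sup (zpowers_le.2 hn) cK.inf) (h.o _) cK (hy' ▸ hu) (h.sl X)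
    (sup_le hKX (zpowers_le.2 hyX)) (c1.sup_right (c2.cop' py) (zpowers_le.2 hn)) (cen_zpowers y ▸ h1)
  exact fun a ha => this (commutator_mem_commutator (mem_zpowers y) ha)

/-- a non-cyclic abelian group centralising `y` cannot act on a group where `y` has fixed points -/
theorem lemT (hp : p.Prime) (hu : u.Prime) (hw : w.Prime) (n1 : p ≠ u) (n2 : p ≠ w) (n3 : u ≠ w)
    (hV : PGrp p V) (hy : orderOf y = u) (h1 : V ⊓ C[y] ≠ ⊥) (hA : PGrp w A) (ab : Ab A) (hn : A ≤ N(V))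
    (hc : A ≤ C[y]) : Cyc A := by
  by_contra nc
  obtain ⟨a, ha, a1, e⟩ := coprime_abelian_exists_cent1_ne ab nc (normsI hn (norms_of_le hc))
    ((hV.inf_left _).cop_of_ne hA n2) h1
  obtain ⟨v, hv, v1⟩ := exists_ne_one e
  exact h.nt' hp hu hw n1 n2 n3 (h.ord hp hV hv.1.1 v1) hy (h.ord hw hA ha a1) hv.1.2 hv.2
    (cen1_comm.1 (hc ha))

theorem lemT' (hp : p.Prime) (hu : u.Prime) (hw : w.Prime) (n1 : p ≠ u) (n2 : p ≠ w) (n3 : u ≠ w)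
    (hV : PGrp p V) (hy : orderOf y = u) (h1 : V ⊓ C[y] ≠ ⊥) (hA : PGrp w A) (hn : A ≤ N(V))
    (hc : A ≤ C[y]) : Cyc A := by
  by_contra nc
  obtain ⟨B, h2, -, h3, h4⟩ := h.exAb hw hA nc
  exact h4 (h.lemT hp hu hw n1 n2 n3 hV hy h1 (hA.mono h2) h3 (h2.trans hn) (h2.trans hc))

theorem lemB (hp : p.Prime) (hu : u.Prime) (hw : w.Prime) (n1 : p ≠ u) (n2 : p ≠ w) (n3 : u ≠ w)
    (hV : PGrp p V) (V1 : V ≠ ⊥) (hA : PGrp u A) (hB : PGrp w B) (nA : A ≤ N(V)) (nB : B ≤ N(V))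
    (hc : B ≤ C(A)) : Cyc A ∨ Cyc B := by
  by_contra! nc
  obtain ⟨A', h2, -, h3, h4⟩ := h.exAb hu hA nc.1
  obtain ⟨a, ha, a1, e⟩ := coprime_abelian_exists_cent1_ne h3 h4 (h2.trans nA)
    (hV.cop_of_ne (hA.mono h2) n1) V1
  exact nc.2 (h.lemT' hp hu hw n1 n2 n3 hV (h.ord hu hA (h2 ha) a1) e hB nB (hc.trans (cen_le_cen1 (h2 ha))))

theorem mem_core (hu : u.Prime) (hL : PiGrp {u, w} L) (hy : y ∈ L) (py : PiElt {u} y) (c1 : y ∈ C(O[{u}](L)))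
    (c2 : y ∈ C(O[{w}](L))) : y ∈ O[{u}](L) := by
  have : F(L) ≤ C[y] := fitting_le_of_forall_pcore fun t ht => by
    by_cases e : O[{t}](L) = ⊥
    · exact e.le.trans bot_le
    rcases hL.mem_of_pgrp (pcore_pi _ _) e (pcore_le _ _) with rfl | rfl
    exacts [le_cen1.2 c1, le_cen1.2 c2]
  exact py.zpowers.le_pcore_of_le_fitting (zpowers_le.2 (cent_sub_Fitting (h.sl L) ⟨hy, le_cen1.1 this⟩))
    (mem_zpowers y)

theorem lemP (hr : r ∈ σ) (hs : s.Prime) (hL : PiGrp {r, s} L) (hi : PiNat {r}ᶜ (L.relIndex ⊤))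
    (c1 : Cyc O[{r}](L)) (c2 : Cyc O[{s}](L)) : r < s := by
  obtain ⟨B, h1, h2, h3, h4, h5⟩ := h.exB hr hi (pcore_pi _ _) (pcore_nml _ _) c1
  have nc : ¬ B ≤ C(O[{s}](L)) := fun e => h5 (c1.mono fun y hy =>
    h.mem_core (h.pr r hr) hL (h1 hy) (h3.piElt hy) (h4.cents h2 le_rfl hy) (e hy))
  refine h3.lt_of_not_cents hs (h.cyc_card hs (pcore_pi _ _) c2 fun e => nc ?_) (h1.trans (pcore_nrm _ _)) nc
  rw [e, cen_bot]; exact le_top

/-- two normal Sylow subgroups -/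
structure C1 (p q r s : ℕ) (V W D : Subgroup G) : Prop where
  hp : p.Prime
  hq : q.Prime
  hr : r ∈ σ
  hs : s ∈ σ
  pq : p ≠ q
  pr : p ≠ r
  ps : p ≠ s
  qr : q ≠ r
  qs : q ≠ s
  rs : r ≠ s
  mV : MinNml V ⊤
  mW : MinNml W ⊤
  pV : PGrp p V
  pW : PGrp q W
  cen : W ≤ C(V)
  sup : V ⊔ W ⊔ D = ⊤
  pD : PiGrp {r, s} D
  ir : PiNat {r}ᶜ (D.relIndex ⊤)
  is : PiNat {s}ᶜ (D.relIndex ⊤)

omit h in
theorem C1.symm (c : C1 (σ := σ) p q r s V W D) : C1 (σ := σ) q p r s W V D :=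
  ⟨c.hq, c.hp, c.hr, c.hs, c.pq.symm, c.qr, c.qs, c.pr, c.ps, c.rs, c.mW, c.mV, c.pW, c.pV, centsC c.cen,
    sup_comm V W ▸ c.sup, c.pD, c.ir, c.is⟩

omit h in
theorem C1.swap (c : C1 (σ := σ) p q r s V W D) : C1 (σ := σ) p q s r V W D :=
  ⟨c.hp, c.hq, c.hs, c.hr, c.pq, c.ps, c.pr, c.qs, c.qr, c.rs.symm, c.mV, c.mW, c.pV, c.pW, c.cen,
    c.sup, Set.pair_comm r s ▸ c.pD, c.is, c.ir⟩

theorem c1_or (c : C1 (σ := σ) p q r s V W D) (hy : orderOf y = s) : V ⊓ C[y] = ⊥ ∨ W ⊓ C[y] = ⊥ := by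
  by_contra! e
  obtain ⟨v, hv, v1⟩ := exists_ne_one e.1
  obtain ⟨w, hw, w1⟩ := exists_ne_one e.2
  exact h.nt' c.hp c.hq (h.pr s c.hs) c.pq c.ps c.qs (h.ord c.hp c.pV hv.1 v1) (h.ord c.hq c.pW hw.1 w1) hy
    (cen1_comm.1 (cen_le_cen1 hv.1 (c.cen hw.1))) hv.2 hw.2

theorem c1_cm (c : C1 (σ := σ) p q r s V W D) (hD : y ∈ D) (hy : orderOf y = s) (e : V ⊓ C[y] = ⊥) :
    y ∈ cm C(V) O[{r}](D) (norms_cent c.mV.nrm) := fun a ha =>
  (h.lemF (h.pr s c.hs) hy ((pcore_pi _ _).p' c.rs) (pcore_nrm _ _ hD) (le_top.trans c.mV.nrm)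
    (c.mV.nrm trivial) (c.pV.cop_of_ne (pcore_pi _ _) c.pr) (c.pV.p' c.ps) e a ha).2

theorem c1_aux (c : C1 (σ := σ) p q r s V W D) (hc : Cyc O[{s}](D)) (h1 : B ≤ D) (h2 : O[{s}](D) ≤ B)
    (h3 : PGrp s B) (h4 : Ab B) (h5 : ¬ Cyc B) (h6 : B ≤ cm C(V) O[{r}](D) (norms_cent c.mV.nrm)) : False := by
  have pr := h.pr r c.hr
  have ps := h.pr s c.hs
  have k1 : ∀ y ∈ B, y ∉ O[{s}](D) → ∃ a ∈ C(V), orderOf a = r ∧ V ⊓ C[y] = ⊥ := fun y hy n => by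
    have n2 : y ∉ C(O[{r}](D)) := fun e => n (h.mem_core ps (Set.pair_comm r s ▸ c.pD) (h1 hy) (h3.piElt hy)
      (h4.cents h2 le_rfl hy) e)
    rw [mem_cen] at n2
    push Not at n2
    obtain ⟨a, ha, n3⟩ := n2
    have a1 : ⁅y, a⁆ ≠ 1 := fun e => n3 (commutatorElement_eq_one_iff_mul_comm.1 e).symm
    have a2 : ⁅y, a⁆ ∈ O[{r}](D) := mul_mem (conj_mem (pcore_nrm _ _ (h1 hy)) ha) (inv_mem ha)
    have a3 := h.ord pr (pcore_pi _ _) a2 a1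
    have oy := h.ord ps h3 hy fun e => n (e ▸ one_mem _)
    refine ⟨_, h6 hy a ha, a3, (h.c1_or c oy).resolve_right fun e => ?_⟩
    have a4 := h.c1_cm c.symm (h1 hy) oy e a ha
    rcases h.c1_or c.swap a3 with e | e
    · exact c.mV.ne (inf_eq_left.2 (le_cen1.2 (h6 hy a ha)) ▸ e)
    · exact c.mW.ne (inf_eq_left.2 (le_cen1.2 a4) ▸ e)
  obtain ⟨y, hy, y1, e⟩ := coprime_abelian_exists_cent1_ne h4 h5 (le_top.trans c.mV.nrm)
    (c.pV.cop_of_ne h3 c.ps) c.mV.ne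
  have hyS : y ∈ O[{s}](D) := by_contra fun n => let ⟨_, _, _, k⟩ := k1 y hy n; e k
  have cS := h.cyc_card ps (pcore_pi _ _) hc (ne_bot_of_mem hyS y1)
  rw [cen1_eq_of_prime (cS.symm ▸ ps) hyS y1] at e
  have abV := c.mV.ab (h.sl V)
  have k2 := c.mV.min _ inf_le_left e (c.sup ▸ sup_le (sup_le (cents_norm (abV.cents inf_le_left le_rfl))
    (cents_norm (c.cen.trans (cen_anti inf_le_left))))
    (norms_subcent (le_top.trans c.mV.nrm) (pcore_nrm _ _)))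
  obtain ⟨y', hy', n⟩ := SetLike.not_le_iff_exists.1 fun e : B ≤ O[{s}](D) => h5 (hc.mono e)
  obtain ⟨a, ha, oa, -⟩ := k1 y' hy' n
  obtain ⟨v, hv, v1⟩ := exists_ne_one c.mV.ne
  exact h.luc c.hp (h.ord c.hp c.pV hv v1) c.hq pr ps c.qr c.qs c.rs c.pq c.pr c.ps
    (c.pW.dvd_of_le c.mW.ne (c.cen.trans (cen_le_cen1 hv))) (oa ▸ orderOf_dvd_card' (cen_le_cen1 hv ha))
    (h.ord ps h3 hy y1 ▸ orderOf_dvd_card' (cen_le_cen1 hv (centsC (k2.ge.trans inf_le_right) hyS)))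

theorem c1_ncyc (c : C1 (σ := σ) p q r s V W D) : ¬ Cyc O[{s}](D) := fun hc => by
  obtain ⟨B, h1, h2, h3, h4, h5⟩ := h.exB c.hs c.is (pcore_pi _ _) (pcore_nml _ _) hc
  rcases le_or_le (B := B) (X := cm C(V) O[{r}](D) (norms_cent c.mV.nrm))
    (D := cm C(W) O[{r}](D) (norms_cent c.mW.nrm)) (fun y hy => by
      by_cases y1 : y = 1
      · exact Or.inl (y1 ▸ one_mem _)
      have oy := h.ord (h.pr s c.hs) h3 hy y1
      exact (h.c1_or c oy).imp (h.c1_cm c (h1 hy) oy) (h.c1_cm c.symm (h1 hy) oy)) with e | e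
  exacts [h.c1_aux c hc h1 h2 h3 h4 h5 e, h.c1_aux c.symm hc h1 h2 h3 h4 h5 e]

theorem c1_false (c : C1 (σ := σ) p q r s V W D) : False :=
  (h.lemB c.hp (h.pr r c.hr) (h.pr s c.hs) c.pr c.ps c.rs c.pV c.mV.ne (pcore_pi _ D) (pcore_pi _ D)
    (le_top.trans c.mV.nrm) (le_top.trans c.mV.nrm) ((fitting_nil D).cents_of_cop (pcore_le_fitting _ _)
      (pcore_le_fitting _ _) ((pcore_pi _ _).cop_of_ne (pcore_pi _ _) c.rs.symm))).elim
    (h.c1_ncyc c.swap) (h.c1_ncyc c)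

/-- a faithful complement -/
structure C2 (p : ℕ) (V H : Subgroup G) : Prop where
  hp : p.Prime
  V1 : V ≠ ⊥
  nV : ⊤ ≤ N(V)
  pV : PGrp p V
  hall : Hall {p}ᶜ H ⊤
  faith : H ⊓ C(V) = ⊥

theorem c2_fix (c : C2 p V H) (hu : u.Prime) (hH : y ∈ H) (hy : orderOf y = u) (hF : O[{u}](H) = ⊥) :
    V ⊓ C[y] ≠ ⊥ := fun e => by
  have n : p ≠ u := fun e => c.hall.pi.piElt hH u hu hy.symm.dvd e.symm
  have pF : PiGrp {u}ᶜ F(H) := fitting_pi (by rwa [compl_compl])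
  have := h.lemF hu hy pF (fitting_nrm H hH) (le_top.trans c.nV) (c.nV trivial)
    (c.pV.cop (c.hall.pi.mono (fitting_le H))) (c.pV.p' n) e
  have k : y ∈ F(H) := cent_sub_Fitting (h.sl H) ⟨hH, mem_cen.2 fun a ha =>
    (commutatorElement_eq_one_iff_mul_comm.1 (mem_bot.1 (c.faith.le
      ⟨fitting_le H (this a ha).1, (this a ha).2⟩))).symm⟩
  exact pF.piElt k u hu hy.symm.dvd rfl

theorem c2_cyc (c : C2 p V H) (hq : q.Prime) (hr : r.Prime) (hs : s.Prime) (pr : p ≠ r) (ps : p ≠ s) (qr : q ≠ r)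
    (qs : q ≠ s) (rs : r ≠ s) (hL : L ≤ H) (hy : y ∈ L) (oy : orderOf y = s) (hF : O[{s}](H) = ⊥)
    (e : O[{q}](H) ⊓ C[y] = ⊥) (hR : O[{r}](L) ⊓ C(O[{q}](H)) ≤ C[y]) : Cyc O[{r}](L) := by
  have := h.lemF hs oy ((pcore_pi {r} L).p' rs) (pcore_nrm _ _ hy) (((pcore_le _ _).trans hL).trans (pcore_nrm _ _))
    (pcore_nrm _ _ (hL hy)) ((pcore_pi {q} H).cop_of_ne (pcore_pi _ _) qr) ((pcore_pi _ _).p' qs) e
  have hy' : #⟪y⟫ = s := by rw [card_zpowers', oy]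
  have k : ⟪y⟫ ≤ C(O[{r}](L)) := stable_factor_cent (N := O[{r}](L) ⊓ C(O[{q}](H)))
    (zpowers_le.2 (pcore_nrm _ _ hy)) ((pcore_pi _ _).cop_of_ne (pGrp_of_card_prime hs hy') rs) (by
      rw [commC]
      have n1 : ⟪y⟫ ≤ N(O[{r}](L) ⊓ C(O[{q}](H))) :=
        norms_subcent (zpowers_le.2 (pcore_nrm _ _ hy)) (zpowers_le.2 (pcore_nrm _ _ (hL hy)))
      refine commutator_le.2 fun g hg a ha => ?_
      obtain ⟨i, rfl⟩ := mem_powers_iff_mem_zpowers.2 hg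
      clear hg
      induction i with
      | zero => simp
      | succ i ih =>
        rw [show ⁅y ^ (i + 1), a⁆ = y * ⁅y ^ i, a⁆ * y⁻¹ * ⁅y, a⁆ by
          simp only [commutatorElement_def, pow_succ']; group]
        exact mul_mem (conj_mem (n1 (mem_zpowers y)) ih) (this a ha))
    (zpowers_le.2 (le_cen1.1 hR))
  exact h.lemT' c.hp hs hr ps pr rs.symm c.pV oy (h.c2_fix c hs (hL hy) oy hF) (pcore_pi _ _)
    (le_top.trans c.nV) (le_cen1.2 (k (mem_zpowers y)))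

theorem c2a (c : C2 p V H) (hq : q.Prime) (hr : r ∈ σ) (hs : s ∈ σ) (pq : p ≠ q) (pr : p ≠ r) (ps : p ≠ s)
    (qr : q ≠ r) (qs : q ≠ s) (rs : r ≠ s) (all : ∀ t ∈ σ, t = p ∨ t = q ∨ t = r ∨ t = s)
    (Q1 : O[{q}](H) ≠ ⊥) (R1 : O[{r}](H) ≠ ⊥) (hc : Cyc O[{r}](H)) : False := by
  have pr' := h.pr r hr
  have ps' := h.pr s hs
  have cR := h.cyc_card pr' (pcore_pi _ _) hc R1
  have cc : ∀ {a b : ℕ}, a ≠ b → O[{a}](H) ≤ C(O[{b}](H)) := fun n => (fitting_nil H).cents_of_cop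
    (pcore_le_fitting _ _) (pcore_le_fitting _ _) ((pcore_pi _ _).cop_of_ne (pcore_pi _ _) n)
  obtain ⟨m, hm, om⟩ := (pcore_pi _ _).exists_elt R1
  -- no `s`-element centralising `m` has fixed points on `O_q`
  have k1 : ∀ y, orderOf y = s → y ∈ C(O[{r}](H)) → O[{q}](H) ⊓ C[y] = ⊥ := fun y oy hy => by
    by_contra e
    obtain ⟨x, hx, x1⟩ := exists_ne_one e
    exact h.nt' hq ps' pr' qs qr rs.symm (h.ord hq (pcore_pi _ _) hx.1 x1) oy om hx.2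
      (cen_le_cen1 hm (cc qr hx.1)) (cen_le_cen1 hm hy)
  have S1 : O[{s}](H) = ⊥ := by
    by_contra e
    obtain ⟨y, hy, oy⟩ := (pcore_pi _ _).exists_elt e
    exact Q1 (inf_eq_left.2 ((cc qs).trans (cen_le_cen1 hy)) ▸ k1 y oy (cc rs.symm hy))
  have k2 : ∀ X, X ≤ H → PGrp s X → X ≤ C(O[{r}](H)) → Cyc X := fun X h1 h2 h3 => by
    by_contra nc
    obtain ⟨B, b1, -, b2, b3⟩ := h.exAb ps' h2 nc
    obtain ⟨y, hy, y1, e⟩ := coprime_abelian_exists_cent1_ne b2 b3 ((b1.trans h1).trans (pcore_nrm {q} H))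
      ((pcore_pi _ _).cop_of_ne (h2.mono b1) qs) Q1
    exact e (k1 y (h.ord ps' h2 (b1 hy) y1) (h3 (b1 hy)))
  have idx : ∀ t, p ≠ t → PiNat {t}ᶜ (H.relIndex ⊤) := fun t n =>
    c.hall.idx.p'_of_not_mem (by simpa using n.symm)
  obtain ⟨B, b1, -, b2, b3, b4⟩ := h.exB hs (idx s ps) (piGrp_bot _) (nml_bot H) cyc_bot
  have lt : s < r := b2.lt_of_not_cents pr' cR (b1.trans (pcore_nrm _ _)) fun e => b4 (k2 B b1 b2 e)
  obtain ⟨y, hy, y1, e⟩ := coprime_abelian_exists_cent1_ne b3 b4 (b1.trans (pcore_nrm {r} H))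
    ((pcore_pi _ _).cop_of_ne b2 rs) R1
  have oy := h.ord ps' b2 hy y1
  have hyR : y ∈ C(O[{r}](H)) := le_cen1.1 (inf_eq_left.1 (eq_of_le_prime (cR.symm ▸ pr') inf_le_left e))
  have py : PiGrp {r, s} ⟪y⟫ := (b2.mono (zpowers_le.2 hy)).pi (by simp)
  obtain ⟨L, hL, hyL⟩ := Hall_superset (h.sl (H ⊓ C(O[{r}](H)))) (zpowers_le.2 ⟨b1 hy, hyR⟩) py
  have LH : L ≤ H := hL.le.trans inf_le_left
  have c1 : Cyc O[{r}](L) := h.c2_cyc c hq pr' ps' pr ps qr qs rs LH (hyL (mem_zpowers y)) oy S1 (k1 y oy hyR)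
    fun a ha => by
      have a1 : a ∈ L := pcore_le _ _ ha.1
      have : F(H) ≤ C[a] := fitting_le_of_forall_pcore fun t ht => by
        by_cases e : O[{t}](H) = ⊥
        · exact e.le.trans bot_le
        have d := ((pcore_pi _ _).dvd e).trans (card_dvd (pcore_le {t} H))
        rcases all t (h.pi t ht (d.trans (card_subgroup_dvd_card H))) with rfl | rfl | rfl | rfl
        · exact absurd rfl (c.hall.pi _ ht d)
        · exact le_cen1.2 ha.2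
        · exact le_cen1.2 (hL.le a1).2
        · exact absurd S1 e
      have a2 := ((pcore_pi _ _).piElt ha.1).zpowers.le_pcore_of_le_fitting
        (zpowers_le.2 (cent_sub_Fitting (h.sl H) ⟨LH a1, le_cen1.1 this⟩)) (mem_zpowers a)
      exact le_cen1.2 hyR a2
  have c2 : Cyc O[{s}](L) := k2 _ ((pcore_le _ _).trans LH) (pcore_pi _ _)
    ((pcore_le _ _).trans (hL.le.trans inf_le_right))
  refine (h.lemP hr ps' hL.pi ?_ c1 c2).not_gt lt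
  obtain ⟨P, hP⟩ := exists_syl r H
  have P1 : P ≤ H ⊓ C(O[{r}](H)) := le_inf hP.le (hP.pi.cents_of_prime cR pr' (hP.le.trans (pcore_nrm _ _)))
  rw [← relIndex_mul_relIndex _ _ _ hL.le le_top]
  exact (hL.idx.p'_of_mem (by simp)).mul ((hP.of_relIndex le_top (idx r pr)).relIndex_of_le P1)

theorem c2b_aux (c : C2 p V H) (hq : q.Prime) (hr : r.Prime) (hs : s.Prime) (pq : p ≠ q) (pr : p ≠ r) (ps : p ≠ s)
    (qr : q ≠ r) (qs : q ≠ s) (rs : r ≠ s) (hF : ∀ t, t.Prime → t ≠ q → O[{t}](H) = ⊥) (hL : L ≤ H)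
    (ox : orderOf x = r) (hy : y ∈ L) (oy : orderOf y = s) (e : x ∈ C[y]) : Cyc O[{r}](L) := by
  refine h.c2_cyc c hq hr hs pr ps qr qs rs hL hy oy (hF s hs qs.symm) ?_ fun a ha => ?_
  · by_contra n
    exact h.luc hs oy c.hp hq hr pq pr qr ps.symm qs.symm rs.symm
      ((c.pV.inf_left _).dvd_of_le (h.c2_fix c hs (hL hy) oy (hF s hs qs.symm)) inf_le_right)
      (((pcore_pi _ _).inf_left _).dvd_of_le n inf_le_right) (ox ▸ orderOf_dvd_card' e)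
  · have : F(H) ≤ C[a] := fitting_le_of_forall_pcore fun t ht => by
      by_cases e : t = q
      · exact e ▸ le_cen1.2 ha.2
      · exact (hF t ht e).le.trans bot_le
    have a2 := ((pcore_pi _ _).piElt ha.1).zpowers.le_pcore_of_le_fitting
      (zpowers_le.2 (cent_sub_Fitting (h.sl H) ⟨hL (pcore_le _ _ ha.1), le_cen1.1 this⟩)) (mem_zpowers a)
    rw [hF r hr qr.symm, mem_bot] at a2
    exact a2 ▸ one_mem _

theorem pair_in {π : Set ℕ} (hL : Hall π L ⊤) (hr : r ∈ σ) (hs : s ∈ σ) (n : r ≠ s) (r1 : r ∈ π) (s1 : s ∈ π) :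
    ∃ x ∈ L, ∃ y ∈ L, orderOf x = r ∧ orderOf y = s ∧ x * y = y * x := by
  obtain ⟨x, y, ox, oy, c⟩ := h.adj r hr s hs n
  have px := ((piElt_of_orderOf_prime (h.pr r hr) ox).2 r1).zpowers
  have py := ((piElt_of_orderOf_prime (h.pr s hs) oy).2 s1).zpowers
  obtain ⟨g, -, e⟩ := Hall_Jsub h.sol hL le_top (px.sup py (cents_norm (zpowers_le.2 (by
    rw [cen_zpowers]; exact mem_cen1.2 c.symm))))
  exact ⟨_, e (conj_mem_cj.2 (mem_sup_left (mem_zpowers x))), _, e (conj_mem_cj.2 (mem_sup_right (mem_zpowers y))),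
    (orderOf_conj _ _).trans ox, (orderOf_conj _ _).trans oy, by rw [conj_mul, conj_mul, c]⟩

theorem c2_false (c : C2 p V H) (hp : p ∈ σ) : False := by
  obtain ⟨q0, hq0, n0⟩ := h.other hp
  have H1 : H ≠ ⊥ := by
    obtain ⟨x, y, -, oy, -⟩ := h.adj p hp q0 hq0 n0
    exact c.hall.ne_bot (p := q0) (by simpa using n0.symm) ⟨h.pr _ hq0, oy ▸ orderOf_dvd_card' (mem_top y)⟩
  have mem : ∀ t, t.Prime → O[{t}](H) ≠ ⊥ → t ∈ σ ∧ p ≠ t := fun t ht e => by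
    have d := ((pcore_pi _ _).dvd e).trans (card_dvd (pcore_le {t} H))
    exact ⟨h.pi t ht (d.trans (card_subgroup_dvd_card H)), fun e => c.hall.pi _ ht d e.symm⟩
  obtain ⟨q, hq, Q1⟩ := (h.sl H).exists_pcore_ne_bot H1
  obtain ⟨hq', pq⟩ := mem q hq Q1
  obtain ⟨r, hr, s, hs, pr, ps, qr, qs, rs, all⟩ := h.others hp hq' pq
  by_cases hF : ∀ t, t.Prime → t ≠ q → O[{t}](H) = ⊥
  · obtain ⟨L, hL⟩ := Hall_exists {r, s} (h.sl H)
    have hL' := c.hall.subHall (by rintro _ (rfl | rfl); exacts [pr.symm, ps.symm]) hL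
    obtain ⟨x, hx, y, hy, ox, oy, e⟩ := h.pair_in hL' hr hs rs (by simp) (by simp)
    have pr' := h.pr r hr
    have ps' := h.pr s hs
    have c1 := h.c2b_aux c hq pr' ps' pq pr ps qr qs rs hF hL.le ox hy oy (mem_cen1.2 e)
    have c2 := h.c2b_aux c hq ps' pr' pq ps pr qs qr rs.symm hF hL.le oy hx ox (mem_cen1.2 e.symm)
    exact (h.lemP hr ps' hL.pi (hL'.idx.p'_of_mem (by simp)) c1 c2).not_gt
      (h.lemP hs pr' (Set.pair_comm r s ▸ hL.pi) (hL'.idx.p'_of_mem (by simp)) c2 c1)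
  push Not at hF
  obtain ⟨t, ht, tq, T1⟩ := hF
  obtain ⟨ht', pt⟩ := mem t ht T1
  obtain ⟨s', hs', d1, d2, d3, all'⟩ : ∃ s' ∈ σ, p ≠ s' ∧ q ≠ s' ∧ t ≠ s' ∧
      ∀ a ∈ σ, a = p ∨ a = q ∨ a = t ∨ a = s' := by
    rcases all t ht' with rfl | rfl | rfl | rfl
    · exact absurd rfl pt
    · exact absurd rfl tq
    · exact ⟨s, hs, ps, qs, rs, all⟩
    · exact ⟨r, hr, pr, qr, rs.symm, fun a ha => by have := all a ha; tauto⟩
  rcases h.lemB c.hp hq ht pq pt tq.symm c.pV c.V1 (pcore_pi _ H) (pcore_pi _ H) (le_top.trans c.nV)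
    (le_top.trans c.nV) ((fitting_nil H).cents_of_cop (pcore_le_fitting _ _) (pcore_le_fitting _ _)
      ((pcore_pi _ _).cop_of_ne (pcore_pi _ _) tq)) with e | e
  · exact h.c2a c ht hq' hs' pt pq d1 tq d3 d2 (fun a ha => by have := all' a ha; tauto) T1 Q1 e
  · exact h.c2a c hq ht' hs' pq pt d1 tq.symm d2 d3 all' Q1 T1 e

theorem minSyl (ih : ∀ M : Subgroup G, M ≠ ⊤ → ¬ Cx σ M) (hV : MinNml V ⊤) :
    ∃ p ∈ σ, PGrp p V ∧ ∀ H, Hall {p}ᶜ H ⊤ → V ⊔ H = ⊤ := by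
  obtain ⟨p, hp, ab⟩ := hV.abelem (h.sl V)
  have pV := ab.pGrp hp
  have hp' := h.pi p hp ((pV.dvd hV.ne).trans (card_subgroup_dvd_card V))
  refine ⟨p, hp', pV, fun H hH => by_contra fun n => ih _ n (h.sub _ ?_)⟩
  have key : ∀ u ∈ σ, p ≠ u → ∃ x ∈ V ⊔ H, ∃ y ∈ V ⊔ H, orderOf x = p ∧ orderOf y = u ∧ x * y = y * x :=
    fun u hu n => by
    obtain ⟨B, b1, -, b2, b3, b4⟩ := h.exB hu (hH.idx.p'_of_not_mem (by simpa using n.symm)) (piGrp_bot _)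
      (nml_bot H) cyc_bot
    obtain ⟨y, hy, y1, e⟩ := coprime_abelian_exists_cent1_ne b3 b4 (le_top.trans hV.nrm) (pV.cop_of_ne b2 n) hV.ne
    obtain ⟨v, hv, v1⟩ := exists_ne_one e
    exact ⟨v, mem_sup_left hv.1, y, mem_sup_right (b1 hy), h.ord hp pV hv.1 v1, h.ord (h.pr u hu) b2 hy y1,
      mem_cen1.1 hv.2⟩
  intro a ha b hb n
  by_cases a1 : a = p
  · exact a1 ▸ key b hb (a1 ▸ n)
  by_cases b1 : b = p
  · obtain ⟨x, hx, y, hy, e1, e2, e3⟩ := key a ha (Ne.symm a1)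
    exact ⟨y, hy, x, hx, e2, b1 ▸ e1, e3.symm⟩
  obtain ⟨x, hx, y, hy, e⟩ := h.pair_in hH ha hb n a1 b1
  exact ⟨x, mem_sup_right hx, y, mem_sup_right hy, e⟩

theorem step (ih : ∀ M : Subgroup G, M ≠ ⊤ → ¬ Cx σ M) : False := by
  obtain ⟨p0, hp0⟩ := Finset.card_pos.1 (h.four ▸ by norm_num : 0 < σ.card)
  obtain ⟨q0, hq0, n0⟩ := h.other hp0
  obtain ⟨x, -, ox, -⟩ := h.adj p0 hp0 q0 hq0 n0
  obtain ⟨V, -, hV⟩ := exists_minNml (K := (⊤ : Subgroup G)) (M := ⊤) (ne_bot_of_mem (mem_top x) fun e =>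
    (h.pr p0 hp0).one_lt.ne (by rw [← ox, e, orderOf_one])) (le_nrm _)
  obtain ⟨p, hp, pV, k1⟩ := h.minSyl ih hV
  obtain ⟨H, hH⟩ := Hall_exists {p}ᶜ h.sol
  by_cases e : H ⊓ C(V) = ⊥
  · exact h.c2_false ⟨h.pr p hp, hV.ne, hV.nrm, pV, hH, e⟩ hp
  obtain ⟨W, w1, hW⟩ := exists_minNml (M := ⊤) e (k1 H hH ▸ sup_le (cents_norm (centsC inf_le_right))
    (norms_subcent (le_nrm H) (le_top.trans hV.nrm)))
  obtain ⟨q, hq, pW, k2⟩ := h.minSyl ih hW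
  have pq : p ≠ q := fun e => (hH.pi.mono (w1.trans inf_le_left)).mem_of_pgrp pW hW.ne le_rfl e.symm
  obtain ⟨r, hr, s, hs, pr, ps, qr, qs, rs, all⟩ := h.others hp hq pq
  obtain ⟨H', hH'⟩ := Hall_exists {q}ᶜ h.sol
  have s1 : Syl p V ⊤ := k1 H hH ▸ Hall.sup_left pV hH.pi (le_top.trans hV.nrm)
  have s2 : Syl q W ⊤ := k2 H' hH' ▸ Hall.sup_left pW hH'.pi (le_top.trans hW.nrm)
  have s3 := s2.sup_of_nml s1 (le_top.trans hV.nrm)
  obtain ⟨D, hD, sd⟩ := s3.exists_compl (normsY hV.nrm hW.nrm)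
  refine h.c1_false ⟨h.pr p hp, h.pr q hq, hr, hs, pq, pr, ps, qr, qs, rs, hV, hW, pV, pW,
    w1.trans inf_le_right, sd.sup, fun t ht d => ?_, hD.idx.p'_of_mem (by simp [pr.symm, qr.symm]),
    hD.idx.p'_of_mem (by simp [ps.symm, qs.symm])⟩
  have := hD.pi t ht d
  rcases all t (h.pi t ht (d.trans (card_subgroup_dvd_card D))) with rfl | rfl | rfl | rfl <;> simp_all

end Cx

theorem not_cx (n : ℕ) : ∀ (G : Type u) [Group G] [Finite G], Nat.card G = n → ¬ Cx σ G := by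
  induction n using Nat.strong_induction_on with
  | _ n ih =>
    intro G _ _ e h
    exact h.step fun M hM => ih _ (e ▸ card_top' (G := G) ▸ card_lt hM.lt_top) M rfl

end Cfsg.Agent.H13.JJ
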