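import Mathlib
import Cfsg.Agent.S4039
import Cfsg.Agent.S4302
import Cfsg.Agent.H3.Frattini
import Cfsg.Agent.H5.PLen
import Cfsg.Agent.H18.Functor
import Cfsg.Agent.H2.Fitting

/-! Two-constrained groups with a small maximal Sylow `2`-subgroup. -/

set_option autoImplicit false

namespace Cfsg.Agent.H13.Ln

open Subgroup MulAction

theorem card_fix {Q : Type*} [Group Q] [Finite Q] (h8 : Nat.card Q = 8) {K : Subgroup (MulAut Q)}
    (hK : IsPGroup 3 K) (h0 : K ≠ ⊥) : Nat.card (fixedPoints K Q) = 2 := by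
  haveI : Fact (Nat.Prime 3) := ⟨Nat.prime_three⟩
  have h1 := hK.card_modEq_card_fixedPoints Q
  have h2 : Nat.card (fixedPoints K Q) ∣ 8 := h8 ▸ card_subgroup_dvd_card (FixedPoints.subgroup K Q)
  have h3 : Nat.card (fixedPoints K Q) ≠ 8 := fun e => h0 (eq_bot_iff.2 fun x hx => by
    have : FixedPoints.subgroup K Q = ⊤ := (card_eq_iff_eq_top _).1 (e.trans h8.symm)
    ext a
    exact (this.ge (mem_top a)) ⟨x, hx⟩)
  rw [h8] at h1
  have := Nat.le_of_dvd (by norm_num) h2
  generalize Nat.card (fixedPoints K Q) = n at *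
  interval_cases n <;> simp_all [Nat.ModEq]

theorem card_aut_dvd (Q : Type*) [Group Q] [Finite Q] : Nat.card (MulAut Q) ∣ (Nat.card Q).factorial := by
  rw [← Nat.card_perm]
  exact card_dvd_of_injective (MulAut.toPerm Q) fun a b e => MulEquiv.toEquiv_injective e

theorem not_nine {Q : Type*} [Group Q] [Finite Q] (h8 : Nat.card Q ∣ 8) : ¬ 9 ∣ Nat.card (MulAut Q) := fun h => by
  haveI : Fact (Nat.Prime 3) := ⟨Nat.prime_three⟩
  by_cases e : Nat.card Q = 8
  swap
  · have h1 := h.trans (card_aut_dvd Q)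
    have := Nat.le_of_dvd (by norm_num) h8
    generalize Nat.card Q = n at *
    interval_cases n <;> simp_all [Nat.factorial]
  obtain ⟨P, hP⟩ := Sylow.exists_subgroup_card_pow_prime (G := MulAut Q) 3 (n := 2) h
  have p3 : IsPGroup 3 P := IsPGroup.of_card hP
  have h1 := card_fix e p3 (by rintro rfl; simp at hP)
  obtain ⟨a, ha⟩ : ∃ a, a ∉ fixedPoints P Q := by
    by_contra! c
    rw [Set.eq_univ_of_forall c, Nat.card_congr (Equiv.Set.univ Q), e] at h1
    omega
  have h2 := card_fix e (K := P ⊓ stabilizer (MulAut Q) a) (p3.to_le inf_le_left) fun c => by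
    have : Nat.card P ≤ Nat.card Q := Nat.card_le_card_of_injective (fun x : P => x.1 a) fun x y k => by
      have : x.1⁻¹ * y.1 ∈ P ⊓ stabilizer (MulAut Q) a := ⟨P.mul_mem (P.inv_mem x.2) y.2, by
        simp only at k
        simp [mem_stabilizer_iff, ← k]⟩
      rw [c, mem_bot, inv_mul_eq_one] at this
      exact Subtype.ext this
    omega
  refine ha ((Set.eq_of_subset_of_ncard_le (s := fixedPoints P Q) (t := fixedPoints ↥(P ⊓ stabilizer (MulAut Q) a) Q)
    (fun b hb x => hb ⟨x.1, x.2.1⟩) (h2.trans h1.symm).le).ge fun x => x.2.2)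

theorem iso_S3 {G : Type*} [Group G] [Finite G] {T W : Subgroup G} [W.Normal] (hT : IsCoatom T) (h2 : IsPGroup 2 T)
    (ho : ¬ 2 ∣ T.index) (hc : ∀ N : Subgroup G, N.Normal → IsPGroup 2 N → N = ⊥) {n : ℕ} (hn : 1 ≤ n)
    (e : W ≃* (Fin n → Equiv.Perm (Fin 3))) (h : Nat.card T ≤ 4 ∨ ¬ 9 ∣ Nat.card G) :
    Nonempty (G ≃* Equiv.Perm (Fin 3)) := by
  obtain ⟨s, hs⟩ := IsPGroup.iff_card.1 h2
  have hW : Nat.card W = 6 ^ n := by
    rw [Nat.card_congr e.toEquiv, Nat.card_fun, Nat.card_perm]; simp [Nat.factorial]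
  have hTW : T ⊔ W = ⊤ := hT.2 _ (left_lt_sup.2 fun c => by
    have k : 3 ∣ 2 ^ s := ((by norm_num : 3 ∣ 6).trans (dvd_pow_self 6 (by omega))).trans (hW ▸ hs ▸ card_dvd_of_le c)
    exact absurd (Nat.prime_three.dvd_of_dvd_pow k) (by norm_num))
  obtain ⟨j, -, hj⟩ : ∃ j ≤ s, W.index = 2 ^ j := (Nat.dvd_prime_pow Nat.prime_two).1 (by
    rw [← relIndex_top_right, ← hTW, relIndex_sup_right, ← hs]; exact relIndex_dvd_card _ _)
  have e1 := W.card_mul_index
  have e2 := T.card_mul_index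
  rw [hW, hj] at e1
  have co : ∀ m, (2 ^ m).Coprime T.index := fun m => Nat.Coprime.pow_left m (Nat.prime_two.coprime_iff_not_dvd.2 ho)
  obtain rfl | hn : n = 1 ∨ 2 ≤ n := by omega
  · have k : T.index = 3 := by
      have : T.index ∣ 3 := (co (j + 1)).symm.dvd_of_dvd_mul_left (by
        rw [show 2 ^ (j + 1) * 3 = 6 ^ 1 * 2 ^ j by ring, e1]; exact index_dvd_card T)
      exact ((Nat.dvd_prime Nat.prime_three).1 this).resolve_left fun c => hT.1 (index_eq_one.1 c)
    have hi : Function.Injective (toPermHom G (G ⧸ T)) := by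
      rw [← MonoidHom.ker_eq_bot_iff, ← normalCore_eq_ker]
      exact hc _ inferInstance (h2.to_le T.normalCore_le)
    have hq : Nat.card (G ⧸ T) = 3 := k
    have hb := hi.bijective_of_nat_card_le (by
      rw [Nat.card_perm, hq, ← e1]
      exact Nat.le_mul_of_pos_right _ (by positivity))
    exact ⟨(MulEquiv.ofBijective _ hb).trans (Finite.equivFinOfCardEq hq).permCongrHom⟩
  exfalso
  obtain ⟨m, rfl⟩ := Nat.exists_eq_add_of_le hn
  have h4 := h.resolve_right (not_not.2 ⟨4 * 6 ^ m * 2 ^ j, by rw [← e1]; ring⟩)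
  have k : 2 ^ (2 + m + j) ∣ Nat.card T := (co _).dvd_of_dvd_mul_right ⟨3 ^ (2 + m), by
    rw [e2, ← e1, show 6 = 2 * 3 from rfl, mul_pow]; ring⟩
  have k1 := (Nat.pow_le_pow_iff_right (a := 2) (m := 2) (by norm_num)).1 ((Nat.le_of_dvd Nat.card_pos k).trans h4)
  obtain rfl : j = 0 := by omega
  obtain rfl : W = ⊤ := index_eq_one.1 hj
  let f : G →* Equiv.Perm (Fin 3) :=
    (Pi.evalMonoidHom (fun _ => Equiv.Perm (Fin 3)) ⟨0, by omega⟩).comp (e.toMonoidHom.comp topEquiv.symm.toMonoidHom)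
  have hf : Function.Surjective f :=
    (Function.surjective_eval _).comp (e.surjective.comp topEquiv.symm.surjective)
  have k2 : T ⊔ f.ker = T := by
    by_contra c
    have := hT.2 _ (lt_of_le_of_ne le_sup_left (Ne.symm c))
    rw [← comap_map_eq] at this
    have k3 : T.map f = ⊤ := by rw [← map_comap_eq_self_of_surjective hf (T.map f), this, map_top_of_surjective _ hf]
    have k4 := T.card_map_dvd f
    rw [k3, card_top, Nat.card_perm, hs] at k4
    exact absurd (Nat.prime_three.dvd_of_dvd_pow ((by simp [Nat.factorial] : 3 ∣ _).trans k4)) (by norm_num)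
  have k5 := Nat.card_le_card_of_injective f ((MonoidHom.ker_eq_bot_iff f).1
    (hc _ inferInstance (h2.to_le (le_sup_right.trans k2.le))))
  rw [← e1, Nat.card_perm] at k5
  have : 0 < 6 ^ m := by positivity
  simp [Nat.factorial, pow_add] at k5
  omega

theorem quot_S3' {H : Type*} [Group H] [Finite H] (R : Sylow 2 H) (hR : IsCoatom (R : Subgroup H))
    (hc : Nat.card (R : Subgroup H) ≤ 64) (hC : centralizer (Cfsg.pCore 2 H : Set H) ≤ Cfsg.pCore 2 H)
    (z : H) (hz1 : z ≠ 1) (hzR : z ∈ (R : Subgroup H)) (hz : centralizer {z} = (R : Subgroup H))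
    (hch : ∀ C : Subgroup ↥(R : Subgroup H), C.Characteristic → C ≠ ⊥ → ¬ (C.map (R : Subgroup H).subtype).Normal) :
    Nonempty (H ⧸ Cfsg.pCore 2 H ≃* Equiv.Perm (Fin 3)) := by
  have hF := H2.fittingSubgroup_eq_pCore_of_pPrimeCore_eq_bot (H5b.pPrimeCore_eq_bot_of_charP hC)
  have hQ := H5.isPGroup_pCore (G := H) 2
  have hQR := H5.pCore_le_sylow R
  have hle : ∀ N : Subgroup H, N.Normal → IsPGroup 2 N → N ≤ pCore 2 H := fun N _ h => H5.le_pCore h
  have h12 := fun (_ : Group.IsSolvable H) => S4302.result hF R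
  clear hF
  generalize_proofs nQ
  generalize pCore 2 H = Q at *
  obtain ⟨a, ha⟩ := IsPGroup.iff_card.1 hQ
  have hi : Q.index ∣ Nat.card (MulAut Q) := by
    refine (index_dvd_of_le (H := (MulAut.conjNormal : H →* MulAut Q).ker) fun x hx => hC fun q hq => ?_).trans ?_
    · have := congrArg (fun f : MulAut Q => (f ⟨q, hq⟩ : H)) (MonoidHom.mem_ker.1 hx)
      exact (mul_inv_eq_iff_eq_mul.1 (by simpa using this)).symm
    · rw [index_ker]; exact card_subgroup_dvd_card _
  have hπ := QuotientGroup.mk'_surjective Q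
  have hk : (QuotientGroup.mk' Q).ker = Q := QuotientGroup.ker_mk' Q
  set T := (R : Subgroup H).map (QuotientGroup.mk' Q) with hTd
  have hT2 : IsPGroup 2 T := R.isPGroup'.map _
  obtain ⟨s, hs⟩ := IsPGroup.iff_card.1 hT2
  have hcT : Nat.card Q * Nat.card T = Nat.card (R : Subgroup H) := by
    rw [← relIndex_ker, hk, ← Nat.card_congr (subgroupOfEquivOfLe hQR).toEquiv]
    exact card_mul_index _
  have hT : IsCoatom T := by
    have k : T.comap (QuotientGroup.mk' Q) = R := comap_map_eq_self (hk.le.trans hQR)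
    refine ⟨fun c => hR.1 (by rw [← k, c, comap_top]), fun K hK => comap_injective hπ (hR.2 _ ?_)⟩
    rw [← k]
    exact lt_of_le_of_ne (comap_mono hK.le) fun c => hK.ne (comap_injective hπ c)
  have hs3 : s ≤ 3 := by
    by_contra c
    have k1 : 2 ^ (a + s) ≤ 2 ^ 6 := by rw [pow_add, ← ha, ← hs, hcT]; exact hc
    have k2 := (Nat.pow_le_pow_iff_right (by norm_num)).1 k1
    have k3 : 2 ^ 4 ∣ (2 ^ a).factorial :=
      ((pow_dvd_pow 2 (by omega)).trans (hs ▸ card_subgroup_dvd_card T)).trans (hi.trans (ha ▸ card_aut_dvd Q))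
    have : a ≤ 2 := by omega
    interval_cases a <;> simp [Nat.factorial] at k3
  haveI : Group.IsSolvable (H ⧸ Q) := S4039.result T hT hT2.isNilpotent (by
    by_cases c : 1 < s
    · exact (H3.nilpotencyClass_le_of_card hs c).trans (by omega)
    · haveI : IsCyclic T := isCyclic_of_card_dvd_prime (p := 2) (hs ▸ by
        have : s ≤ 1 := by omega
        interval_cases s <;> simp)
      letI := IsCyclic.commGroup (α := T)
      exact CommGroup.nilpotencyClass_le_one.trans (by norm_num))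
  haveI := hQ.isNilpotent
  haveI : Group.IsSolvable H := Group.isSolvable_of_ker_le_range Q.subtype (QuotientGroup.mk' Q) (by simp)
  obtain ⟨h1, h2⟩ := h12 inferInstance
  have hCQ : (centralizer (((R : Subgroup H) ⊓ centralizer ((R : Subgroup H) : Set H) : Subgroup H) : Set H)).normalCore = Q := by
    refine le_antisymm (hle _ inferInstance (R.isPGroup'.to_le ((normalCore_le _).trans ((centralizer_le ?_).trans hz.le))))
      (normal_le_normalCore.2 fun q hq y hy => (hy.2 q (hQR hq)).symm)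
    rintro _ rfl
    exact ⟨hzR, fun r hr => (mem_centralizer_singleton_iff.1 (hz.ge hr))⟩
  have pf := H18.posFunctor_thompsonA 2
  have hch' : (thompsonSubgroupA (R : Subgroup H)).Characteristic :=
    characteristic_iff_map_eq.2 (pf.map _ _ R.isPGroup')
  simp only [hCQ] at h1 h2
  rcases h2 with h2 | ⟨n, hn, ⟨e⟩⟩
  · refine absurd (normalizer_eq_top_iff.1 (eq_top_iff.2 (h1.ge.trans ?_))) (hch _ hch'
      (pf.ne_bot _ R.isPGroup' ⟨⟨z, hzR⟩, 1, by simpa using hz1⟩))
    have : Q ≤ normalizer (thompsonSubgroupAOf (R : Subgroup H) : Set H) := hQR.trans (pf.le_normalizer R.isPGroup')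
    exact sup_le (sup_le this (h2.trans this)) le_rfl
  set Y := normalClosure (thompsonSubgroupAOf (R : Subgroup H) : Set H)
  haveI : (Y.map (QuotientGroup.mk' Q)).Normal := Normal.map inferInstance _ hπ
  refine iso_S3 (W := Y.map (QuotientGroup.mk' Q)) hT hT2 (by
    rw [hTd, index_map_eq _ hπ (hk.le.trans hQR)]; exact R.not_dvd_index) (fun N _ hN => ?_) hn ?_ ?_
  · have := hle (N.comap (QuotientGroup.mk' Q)) inferInstance (hN.comap_of_ker_isPGroup _ (hk.symm ▸ hQ))
    rw [← map_comap_eq_self_of_surjective hπ N, Subgroup.map_eq_bot_iff, hk]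
    exact this
  · refine MulEquiv.trans ?_ e
    refine ((QuotientGroup.quotientMulEquivOfEq ?_).trans
      (QuotientGroup.quotientKerEquivOfSurjective ((QuotientGroup.mk' Q).subgroupMap Y)
        ((QuotientGroup.mk' Q).subgroupMap_surjective Y))).symm
    rw [hCQ]
    ext x
    rw [MonoidHom.mem_ker, Subtype.ext_iff, mem_subgroupOf]
    exact (QuotientGroup.eq_one_iff x.1).symm
  · by_cases c : a ≤ 3
    · exact Or.inr fun k => not_nine (Q := Q) (ha ▸ pow_dvd_pow 2 c) (k.trans hi)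
    · refine Or.inl ?_
      have : 2 ^ 4 ≤ Nat.card Q := ha ▸ Nat.pow_le_pow_right (by norm_num) (by omega)
      nlinarith

theorem quot_S3 {H : Type*} [Group H] [Finite H] (R : Sylow 2 H) (hR : IsCoatom (R : Subgroup H))
    (hc : Nat.card (R : Subgroup H) ≤ 64) (hC : centralizer (Cfsg.pCore 2 H : Set H) ≤ Cfsg.pCore 2 H)
    (z : H) (hz1 : z ≠ 1) (hzR : z ∈ (R : Subgroup H)) (hz : centralizer {z} = (R : Subgroup H))
    (hch : ∀ C : Subgroup ↥(R : Subgroup H), C.Characteristic → C ≠ ⊥ → ¬ (C.map (R : Subgroup H).subtype).Normal)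
    (_hlen : ∀ c : Fin 9 → Subgroup H, ¬ StrictAnti c) :
    Nonempty (H ⧸ Cfsg.pCore 2 H ≃* Equiv.Perm (Fin 3)) := quot_S3' R hR hc hC z hz1 hzR hz hch

end Cfsg.Agent.H13.Ln
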