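import Mathlib
import Cfsg.Agent.S4039
import Cfsg.Agent.S0215
import Cfsg.Agent.H3.Two
import Cfsg.Agent.H20.Invol
import Cfsg.Agent.H18.SylIn
import Cfsg.Agent.FT.Main

/-! Non-solvable groups with a maximal Sylow `2`-subgroup of maximal class. -/

set_option autoImplicit false

namespace Cfsg.Agent.H13.Ln

open Subgroup Cfsg.Agent.FT Cfsg.Agent.H3
open scoped commutatorElement

theorem exists_mc {X : Type*} [Group X] [Finite X] (hX : ¬ Group.IsSolvable X) (T : Sylow 2 X)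
    (hT : IsCoatom (T : Subgroup X))
    (h : Nat.card (T : Subgroup X) = 16 ∨ (16 ≤ Nat.card (T : Subgroup X) ∧
      ∃ a ∈ (T : Subgroup X), 2 * orderOf a = Nat.card (T : Subgroup X))) :
    ∃ a b m, 3 ≤ m ∧ MC (T : Subgroup X) a b m := by
  have hn := T.isPGroup'.isNilpotent
  have hc : ¬ ClsLE 2 (T : Subgroup X) := fun c => hX (S4039.result _ hT hn ((H23.clsLE_iff hn).1 c))
  rcases h with h | ⟨h, a, ha, e⟩
  · obtain ⟨a, b, k⟩ := MaxCl.mc (m := 3) ⟨Nat.prime_two, by norm_num, h, hc⟩ (by norm_num)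
    exact ⟨a, b, 3, le_rfl, k⟩
  obtain ⟨n, b, ⟨-, k⟩ | k⟩ := mc_or_mod_of_relIndex Nat.prime_two ((pGrp_iff Nat.prime_two).2 T.isPGroup') ha
    (relIndex_of_card_mul (zpowers_le.2 ha) (by rw [card_zpowers']; exact e.symm))
    fun c => hc (clsLE_two.2 ((der_le _).trans c.le_cen))
  · refine ⟨a, b, n, ?_, k⟩
    have := (Nat.pow_le_pow_iff_right (a := 2) (n := 4) (by norm_num)).1 (h.trans (le_of_eq k.card))
    omega
  · exact absurd (clsLE_two'.2 (k.der ▸ k.w_le.trans k.pow_le_center)) hc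

theorem mc {X : Type*} [Group X] [Finite X] (hX : ¬ Group.IsSolvable X) (T : Sylow 2 X)
    (hT : IsCoatom (T : Subgroup X)) (hcore : ∀ K : Subgroup X, K.Normal → IsPGroup 2 K → K = ⊥)
    (h : Nat.card (T : Subgroup X) = 16 ∨ (16 ≤ Nat.card (T : Subgroup X) ∧
      ∃ a ∈ (T : Subgroup X), 2 * orderOf a = Nat.card (T : Subgroup X))) :
    (∃ a ∈ (T : Subgroup X), 2 * orderOf a = Nat.card (T : Subgroup X)) ∧
    (∀ W ≤ (T : Subgroup X), (T : Subgroup X) ≤ normalizer (W : Set X) → (∀ w ∈ W, w*w = 1) → Nat.card W ≤ 2) ∧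
    ∀ z ∈ (T : Subgroup X), orderOf z = 2 → (∀ s ∈ (T : Subgroup X), s*z = z*s) →
      (∃ g : X, g*z*g⁻¹ ∈ (T : Subgroup X) ∧ g*z*g⁻¹ ≠ z) ∧
      ∀ u ∈ (T : Subgroup X), orderOf u = 2 → IsPGroup 2 (centralizer ({u} : Set X)) → IsConj u z := by
  obtain ⟨a, b, m, h3, k⟩ := exists_mc hX T hT h
  refine ⟨⟨a, k.a_mem, by rw [k.ord, ← pow_succ']; exact k.card.symm⟩, fun W hW hN h2 => ?_, fun z hz oz cz => ?_⟩
  · refine (Subgroup.card_le_of_le (K := ⟪a ^ 2 ^ (m - 1)⟫) fun w hw => k.mem_z_of_sq ?_ (by rw [sq, h2 w hw])).trans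
      (le_of_eq k.card_z)
    by_contra c
    have k1 : ⁅a, w⁆ ∈ W := W.mul_mem (conj_mem (hN k.a_mem) hw) (W.inv_mem hw)
    have k2 := orderOf_dvd_of_pow_eq_one ((sq _).trans (h2 _ k1))
    rw [(k.out (hW hw) c).ord_comm] at k2
    have := (Nat.pow_dvd_pow_iff_le_right (k := m - 1) (l := 1) one_lt_two).1 k2
    omega
  have z1 := H20.ne_one_of_orderOf_two oz
  have z2 := H20.mul_self_of_orderOf_two oz
  have ez : z = a ^ 2 ^ (m - 1) :=
    (k.mem_z_iff.1 (k.center.le ⟨hz, mem_cen.2 cz⟩)).resolve_left z1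
  have nc : ¬ normalClosure {z} ≤ (T : Subgroup X) := fun c =>
    z1 (mem_bot.1 ((hcore _ inferInstance (T.isPGroup'.to_le c)).le (subset_normalClosure rfl)))
  have nc' : ¬ ∀ g : X, g * z * g⁻¹ ∈ (T : Subgroup X) := fun c => nc ((closure_le _).2 fun x hx => by
    obtain ⟨_, rfl, e⟩ := Group.mem_conjugatesOfSet_iff.1 hx
    obtain ⟨g, rfl⟩ := isConj_iff.1 e
    exact c g)
  have hC : C[z] = (T : Subgroup X) := by
    by_contra c
    have := hT.2 _ (lt_of_le_of_ne (fun s hs => mem_cen1.2 (cz s hs)) (Ne.symm c))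
    exact nc' fun g => by rwa [mem_cen1.1 (this.ge (mem_top g)), mul_inv_cancel_right]
  refine ⟨?_, fun u hu ou pu => by_contra fun nu => nc' fun g => ?_⟩
  · by_contra! c
    obtain ⟨N, hN, ho, e⟩ := S0215.result T z oz hz c
    by_cases hNT : N ≤ T
    · refine nc' fun g => ?_
      have := T.1.mul_mem (T.1.inv_mem (hNT (e g))) hz
      rw [← inv_eq_of_mul_eq_one_right z2]
      simpa [mul_assoc, z2] using T.1.inv_mem this
    haveI := odd_order_solvable ho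
    haveI := T.isPGroup'.isNilpotent
    have k1 : (T : Subgroup X).map (QuotientGroup.mk' N) = ⊤ := by
      rw [← map_comap_eq_self_of_surjective (QuotientGroup.mk'_surjective N) (map _ _), comap_map_eq,
        QuotientGroup.ker_mk', hT.2 _ (left_lt_sup.2 hNT), map_top_of_surjective _ (QuotientGroup.mk'_surjective N)]
    haveI : Group.IsSolvable (X ⧸ N) := Group.isSolvable_of_surjective
      (f := (QuotientGroup.mk' N).comp (T : Subgroup X).subtype) fun x => by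
        obtain ⟨y, hy, rfl⟩ := k1.ge (mem_top x)
        exact ⟨⟨y, hy⟩, rfl⟩
    exact hX (Group.isSolvable_of_ker_le_range N.subtype (QuotientGroup.mk' N) (by simp))
  obtain ⟨y, -, hy⟩ := (H18.sylIn_top T).exists_conj_mem le_top pu
  have hC' : ∀ x, x * (y * u * y⁻¹) = (y * u * y⁻¹) * x → x ∈ (T : Subgroup X) := fun x hx => by
    have := hy (y⁻¹ * x * y) (mem_cen1.2 (by
      calc _ = y⁻¹ * (x * (y * u * y⁻¹)) * y := by group
        _ = _ := by rw [hx]; group))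
    simpa [mul_assoc] using this
  have nv : ¬ IsConj (y * u * y⁻¹) z := fun c => nu ((isConj_iff.2 ⟨y, rfl⟩).trans c)
  have v2 : y * u * y⁻¹ * (y * u * y⁻¹) = 1 := by
    rw [conj_mul, H20.mul_self_of_orderOf_two ou]; simp
  have v1 : y * u * y⁻¹ ≠ 1 := by simpa using H20.ne_one_of_orderOf_two ou
  generalize y * u * y⁻¹ = v at hC' nv v2 v1
  have va : v ∉ ⟪a⟫ := fun c => nv (by rw [k.eq_z c ((sq _).trans v2) v1, ← ez])
  have k' := k.out (hC' v rfl) va
  obtain ⟨w2, w3, w4⟩ := H20.half_pow_spec (x := g * z * g⁻¹) (y := v) (by rw [conj_mul, z2]; simp) v2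
    (Nat.not_odd_iff_even.1 fun c => nv ((H20.isConj_of_odd_orderOf_mul (by rw [conj_mul, z2]; simp) v2 c).symm.trans
      (isConj_iff.2 ⟨g, rfl⟩).symm))
  generalize (g * z * g⁻¹ * v) ^ (orderOf (g * z * g⁻¹ * v) / 2) = w at w2 w3 w4
  have wT := hC' w w4
  by_cases wa : w ∈ ⟪a⟫
  · rw [k.eq_z wa ((sq _).trans (H20.mul_self_of_orderOf_two w2)) (H20.ne_one_of_orderOf_two w2), ← ez] at w3
    exact hC.le (mem_cen1.2 w3.eq.symm)
  obtain ⟨t, ht, rfl⟩ := k'.exists_mul wT wa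
  have tz : t ∈ ⟪a ^ 2 ^ (m - 1)⟫ := (k'.commute_iff ht).1 (mul_right_cancel (b := v) (by rw [w4.eq, mul_assoc]))
  obtain ⟨s, hs, e⟩ := k'.exists_conj (k.z_le_sq tz)
  have := hC' (s⁻¹ * (g * z * g⁻¹) * s) (by
    calc _ = s⁻¹ * (g * z * g⁻¹ * (s * v * s⁻¹)) * s := by group
      _ = s⁻¹ * ((s * v * s⁻¹) * (g * z * g⁻¹)) * s := by rw [e, w3.eq]
      _ = _ := by group)
  simpa [mul_assoc] using T.1.mul_mem (T.1.mul_mem (k.le hs) this) (T.1.inv_mem (k.le hs))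

end Cfsg.Agent.H13.Ln
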