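import Mathlib
import Cfsg.Agent.H4.Ln2
import Cfsg.Agent.H3.Ln2
import Cfsg.Agent.H3.Frattini
import Cfsg.Agent.S4039
import Cfsg.Agent.H22.Ln1

/-! Short nonsolvable groups with a Sylow `2`-subgroup of order `32`. -/

set_option autoImplicit false
set_option linter.unusedSectionVars false

namespace Cfsg.Agent.H13.Ln

open Cfsg Subgroup Cfsg.Agent.FT Cfsg.Agent.H4L

universe u

theorem coat {X : Type u} [Group X] [Finite X] (hX : ¬ Group.IsSolvable X) {T : Subgroup X} {k : ℕ}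
    (hc : #T = 2 ^ k) (hl : ¬ Ch (k + 2) (⊤ : Subgroup X)) : IsCoatom T := by
  haveI : Fact (Nat.Prime 2) := ⟨Nat.prime_two⟩
  refine ⟨?_, fun K hK => ?_⟩
  · rintro rfl
    apply hX
    have h2 : IsPGroup 2 X := IsPGroup.of_card (by rw [← hc, card_top])
    haveI := h2.isNilpotent
    infer_instance
  · by_contra hne
    exact hl (Ch.step (Ch.step (ch_pow k T hc) hK) (lt_top_iff_ne_top.2 hne))

theorem down {X : Type u} [Group X] [Finite X] (hX : ¬ Group.IsSolvable X) {T : Subgroup X} (hT : Syl 2 T ⊤) {k : ℕ}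
    (hc : #T = 2 ^ (k + 1)) (hcore : ∀ K : Subgroup X, K.Normal → IsPGroup 2 K → K = ⊥)
    (hl : ¬ Ch (k + 1 + 2) (⊤ : Subgroup X)) (hs : ¬ IsSimpleGroup X) :
    ∃ N : Subgroup X, N.index = 2 ∧ ¬ Group.IsSolvable N ∧ Syl 2 ((T ⊓ N).subgroupOf N) ⊤ ∧
      #((T ⊓ N).subgroupOf N) = 2 ^ k ∧ (∀ K : Subgroup N, K.Normal → IsPGroup 2 K → K = ⊥) ∧
      ¬ Ch (k + 2) (⊤ : Subgroup N) := by
  haveI : Fact (Nat.Prime 2) := ⟨Nat.prime_two⟩
  have hco := coat hX hc hl
  haveI : Nontrivial X := by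
    by_contra h
    haveI := not_nontrivial_iff_subsingleton.1 h
    exact hX inferInstance
  obtain ⟨M, hM, h1, h2⟩ : ∃ M : Subgroup X, M.Normal ∧ M ≠ ⊥ ∧ M ≠ ⊤ := by
    by_contra h
    push Not at h
    exact hs ⟨fun M hM => by
      by_cases e : M = ⊥
      · exact Or.inl e
      · exact Or.inr (h M hM e)⟩
  have hTM : T ⊔ M = ⊤ := hco.2 _ (left_lt_sup.2 fun le => h1 (hcore M hM (hT.pi.mono le).isPGroup))
  have hq : IsPGroup 2 (X ⧸ M) := by
    have e : T.map (QuotientGroup.mk' M) = ⊤ := by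
      have := congrArg (Subgroup.map (QuotientGroup.mk' M)) hTM
      rwa [Subgroup.map_sup, (map_eq_bot_iff M).2 (by rw [QuotientGroup.ker_mk']), sup_bot_eq,
        map_top_of_surjective _ (QuotientGroup.mk'_surjective M)] at this
    have := hT.pi.isPGroup.map (QuotientGroup.mk' M)
    rw [e] at this
    exact this.of_equiv topEquiv
  obtain ⟨m, hm⟩ := IsPGroup.iff_card.1 hq
  obtain ⟨m, rfl⟩ : ∃ n, m = n + 1 := by
    refine Nat.exists_eq_succ_of_ne_zero ?_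
    rintro rfl
    exact h2 (index_eq_one.1 hm)
  obtain ⟨K, hK⟩ := Sylow.exists_subgroup_card_pow_prime 2 (n := m) (G := X ⧸ M) (hm ▸ pow_dvd_pow 2 m.le_succ)
  have iK : K.index = 2 := by
    have := K.index_mul_card
    rw [hK, hm, pow_succ'] at this
    exact Nat.eq_of_mul_eq_mul_right (pow_pos two_pos m) this
  set N := K.comap (QuotientGroup.mk' M) with hN
  have iN : N.index = 2 := by rw [hN, index_comap_of_surjective _ (QuotientGroup.mk'_surjective M), iK]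
  haveI nN : N.Normal := normal_of_index_eq_two iN
  have MN : M ≤ N := by
    have := ker_le_comap (QuotientGroup.mk' M) K
    rwa [QuotientGroup.ker_mk'] at this
  have Nt : N ≠ ⊤ := fun e => by rw [e, index_top] at iN; omega
  have hTN : N ⊔ T = ⊤ := top_le_iff.1 (hTM.ge.trans (sup_le le_sup_right (MN.trans le_sup_left)))
  have hnm : N ⊴ ⊤ := ⟨le_top, (normalizer_eq_top N).ge⟩
  refine ⟨N, iN, fun hsol => hX ?_, (hall_so_top inf_le_right).2 (hT.inf_nml hnm), ?_, fun K hK h2 => ?_, fun h => hl ?_⟩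
  · have hq2 : IsPGroup 2 (X ⧸ N) := IsPGroup.of_card (n := 1) iN
    haveI := hq2.isNilpotent
    exact Group.isSolvable_of_ker_le_range N.subtype (QuotientGroup.mk' N) (by simp)
  · rw [card_so inf_le_right]
    have e1 : N.relIndex T = 2 := by rw [← relIndex_sup_left T N, hTN, relIndex_top_right, iN]
    have e2 := card_inf_mul_relIndex N T
    rw [e1, hc, pow_succ, inf_comm] at e2
    omega
  · have a1 : K.map N.subtype ≤ O[{2}](N) :=
      pcore_max (pGrp_of_isPGroup Nat.prime_two (h2.map _)) ⟨map_subtype_le _, by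
        have := (normalizer_eq_top K).ge
        intro x hx
        have h3 := le_normalizer_map (H := K) N.subtype (mem_map_of_mem N.subtype (this (mem_top ⟨x, hx⟩)))
        exact h3⟩
    have a2 : O[{2}](N) = ⊥ := hcore _ (normalizer_eq_top_iff.1 (top_le_iff.1 (norms_pcore _ hnm.nrm)))
      (pcore_pi {2} N).isPGroup
    rw [a2, le_bot_iff, map_eq_bot_iff_of_injective _ N.subtype_injective] at a1
    exact a1
  · have := h.map N.subtype_injective
    rw [← MonoidHom.range_eq_map, range_subtype] at this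
    exact Ch.step this (lt_top_iff_ne_top.2 Nt)

theorem x5' (P1 : ∀ (G : Type u) [Group G] [Finite G] [IsSimpleGroup G], ¬ IsMulCommutative G → ∀ (S : Sylow 2 G),
      Nat.card (S : Subgroup G) = 2 ^ 4 → ∀ a : G, a ∈ (S : Subgroup G) → 2 * orderOf a = 2 ^ 4 →
      (∀ z ∈ (S : Subgroup G), z ≠ 1 → (∀ s ∈ (S : Subgroup G), s * z = z * s) → centralizer {z} = S) →
      Nat.card G = 2448)
    (IH : ∀ (k : ℕ), k ≤ 5 → ∀ (Y : Type u) [Group Y] [Finite Y] [IsSimpleGroup Y], ¬ IsMulCommutative Y →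
      ∀ D : Subgroup Y, Syl 2 D ⊤ → #D = 2 ^ k → ¬ Ch (k + 2) (⊤ : Subgroup Y) → ∃ a ∈ D, 2 * orderOf a = #D)
    {X : Type u} [Group X] [Finite X] (hX : ¬ Group.IsSolvable X) (T : Subgroup X) (hT : Syl 2 T ⊤) (hc : #T = 32)
    (hcore : ∀ K : Subgroup X, K.Normal → IsPGroup 2 K → K = ⊥) (hl : ¬ Ch 7 (⊤ : Subgroup X)) :
    ∃ a ∈ T, 2 * orderOf a = #T := by
  haveI : Fact (Nat.Prime 2) := ⟨Nat.prime_two⟩
  have nc : ∀ {Y : Type u} [Group Y], ¬ Group.IsSolvable Y → ¬ IsMulCommutative Y := fun h hc =>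
    h (Group.isSolvable_of_comm fun a b => hc.is_comm.comm a b)
  by_cases hs : IsSimpleGroup X
  · exact IH 5 le_rfl X (nc hX) T hT hc hl
  obtain ⟨N, iN, hN, hD, cD, coN, lN⟩ := down (k := 4) hX hT hc hcore hl hs
  by_cases hs1 : IsSimpleGroup N
  swap
  · obtain ⟨N1, -, hN1, -, cD1, -, lN1⟩ := down (k := 3) hN hD cD coN lN hs1
    have h2 : IsPGroup 2 _ := IsPGroup.of_card cD1
    exact absurd (S4039.result _ (coat hN1 cD1 lN1) h2.isNilpotent
      (H3.nilpotencyClass_le_of_card (p := 2) cD1 (by norm_num))) hN1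
  obtain ⟨a, ha, ho⟩ := IH 4 (by norm_num) N (nc hN) _ hD cD lN
  obtain ⟨R, H, y, hf⟩ := exists_cf (nc hN) hD (coat hN cD lN)
  obtain ⟨S, hS⟩ := (syl_top_iff Nat.prime_two).1 hD
  rw [← hS] at ha ho cD hf
  have cN := P1 N (nc hN) S cD a ha (ho.trans cD) fun z hz h1 hzc => hf.cz z hz h1 (mem_cen.2 hzc)
  have cX : Nat.card X = 4896 := by rw [← N.index_mul_card, iN, cN]
  obtain ⟨b, hb, hob⟩ := H3.Ln.x32_core T (coat (k := 5) hX hc hl) hc hcore cX
  exact ⟨b, hb, by rw [hob, hc]⟩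

theorem x5 (IH : ∀ (k : ℕ), k ≤ 5 → ∀ (Y : Type u) [Group Y] [Finite Y] [IsSimpleGroup Y], ¬ IsMulCommutative Y →
      ∀ D : Subgroup Y, Syl 2 D ⊤ → #D = 2 ^ k → ¬ Ch (k + 2) (⊤ : Subgroup Y) → ∃ a ∈ D, 2 * orderOf a = #D)
    {X : Type u} [Group X] [Finite X] (hX : ¬ Group.IsSolvable X) (T : Subgroup X) (hT : Syl 2 T ⊤) (hc : #T = 32)
    (hcore : ∀ K : Subgroup X, K.Normal → IsPGroup 2 K → K = ⊥) (hl : ¬ Ch 7 (⊤ : Subgroup X)) :
    ∃ a ∈ T, 2 * orderOf a = #T :=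
  x5' (fun _ _ _ _ hG S hS a ha ho hz => (H22.Ln.cit_final hG S 4 (Or.inl rfl) hS a ha ho hz).2.1 rfl)
    IH hX T hT hc hcore hl

end Cfsg.Agent.H13.Ln
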