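import Mathlib
import Cfsg.Agent.H17.Pron
import Cfsg.Agent.H16.Prim

/-! Sylow 2-normalisers in a wreath product `U ≀ Sym(ι)`. -/

set_option autoImplicit false
set_option linter.unusedSectionVars false

open Cfsg Equiv SemidirectProduct
open Cfsg.Agent.H17

namespace Cfsg.Agent.H13.Pn

/-- The wreath product. -/
abbrev W (ι U : Type*) [Group U] := (ι → U) ⋊[mulAutArrow] Perm ι

variable {ι : Type} {U : Type*} [Group U]

theorem mul_l (x y : W ι U) (i : ι) : (x * y).left i = x.left i * y.left (x.right⁻¹ i) := rfl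

theorem inv_l (x : W ι U) (i : ι) : (x⁻¹).left i = (x.left (x.right i))⁻¹ := rfl

theorem conj_l (x y : W ι U) (hy : y.right = 1) (i : ι) :
    (x * y * x⁻¹).left i = x.left i * y.left (x.right⁻¹ i) * (x.left i)⁻¹ := by
  rw [mul_l, mul_l, inv_l, mul_right, hy, mul_one]
  simp

theorem conj_r (x y : W ι U) (hy : y.right = 1) : (x * y * x⁻¹).right = 1 := by
  simp [hy]

theorem comm_l (g y : W ι U) (hg : g.right = 1) (i : ι) :
    (g * y * g⁻¹ * y⁻¹).left i = g.left i * (y.left i * (g.left (y.right⁻¹ i))⁻¹ * (y.left i)⁻¹) := by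
  have e : g * y * g⁻¹ * y⁻¹ = g * (y * g⁻¹ * y⁻¹) := by group
  rw [e, mul_l, hg, conj_l _ _ (by simp [hg]), inv_l, hg]
  simp

theorem comm_r (g y : W ι U) (hg : g.right = 1) : (g * y * g⁻¹ * y⁻¹).right = 1 := by
  simp [hg]

/-- Elements of the base group with entries in given subgroups. -/
def Bs (H : ι → Subgroup U) : Subgroup (W ι U) where
  carrier := {x | x.right = 1 ∧ ∀ i, x.left i ∈ H i}
  one_mem' := ⟨rfl, fun i => (H i).one_mem⟩
  mul_mem' := fun {x y} hx hy => ⟨by simp [hx.1, hy.1], fun i => by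
    rw [mul_l, hx.1]; exact (H i).mul_mem (hx.2 i) (hy.2 i)⟩
  inv_mem' := fun {x} hx => ⟨by simp [hx.1], fun i => by
    rw [inv_l, hx.1]; exact (H i).inv_mem (hx.2 i)⟩

/-- Elements all of whose entries lie in `N`. -/
def En (ι : Type) (N : Subgroup U) : Subgroup (W ι U) where
  carrier := {x | ∀ i, x.left i ∈ N}
  one_mem' := fun _ => N.one_mem
  mul_mem' := fun {x y} hx hy i => by rw [mul_l]; exact N.mul_mem (hx i) (hy _)
  inv_mem' := fun {x} hx i => by rw [inv_l]; exact N.inv_mem (hx _)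

variable [Fintype ι] [DecidableEq ι]

/-- The product character. -/
def chi {N : Subgroup U} {A : Type*} [CommGroup A] (u : N →* A) : En ι N →* A where
  toFun x := ∏ i, u ⟨x.1.left i, x.2 i⟩
  map_one' := Finset.prod_eq_one fun _ _ => u.map_one
  map_mul' x y := by
    rw [← Equiv.prod_comp x.1.right⁻¹ fun i => u ⟨y.1.left i, y.2 i⟩, ← Finset.prod_mul_distrib]
    exact Finset.prod_congr rfl fun i _ => by rw [← map_mul]; rfl

/-- The `i`-th embedding of `U`. -/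
def sg (i : ι) : U →* W ι U := inl.comp (MonoidHom.mulSingle (fun _ : ι => U) i)

theorem sg_r (i : ι) (a : U) : (sg i a : W ι U).right = 1 := rfl

theorem sg_l (i : ι) (a : U) : (sg i a : W ι U).left = Pi.mulSingle i a := rfl

theorem conj_sg (x : W ι U) (i : ι) (a : U) :
    x * sg i a * x⁻¹ = sg (x.right i) (x.left (x.right i) * a * (x.left (x.right i))⁻¹) := by
  refine SemidirectProduct.ext (funext fun j => ?_) (conj_r _ _ rfl)
  rw [conj_l _ _ rfl, sg_l, sg_l]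
  by_cases h : j = x.right i
  · subst h; simp
  · rw [Pi.mulSingle_eq_of_ne h, Pi.mulSingle_eq_of_ne (fun e => h (by rw [← e]; simp))]
    simp

theorem mem_of_sg {H : Subgroup (W ι U)} {x : W ι U} (hx : x.right = 1) (h : ∀ i, sg i (x.left i) ∈ H) : x ∈ H := by
  have e : x = inl x.left := SemidirectProduct.ext rfl hx
  rw [e]
  refine Subgroup.mem_comap.1 (Subgroup.pi_mem_of_mulSingle_mem x.left (H := H.comap inl) h)

variable [Finite U] {Q : Subgroup U} {S : Subgroup (W ι U)}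

instance : Finite (W ι U) := Finite.of_equiv _ SemidirectProduct.equivProd.symm

theorem mem_bs_of_mem (hQ : H18.SylIn 2 Q ⊤) (hS : IsPGroup 2 S) (hB : Bs (fun _ => Q) ≤ S) {x : W ι U}
    (hx : x ∈ S) (h1 : x.right = 1) : x ∈ Bs fun _ : ι => Q := by
  refine ⟨h1, fun i => ?_⟩
  have k := hQ.max ((S.comap inl).map (Pi.evalMonoidHom (fun _ : ι => U) i)) le_top
    ((hS.comap_of_injective _ inl_injective).map _) fun q hq =>
      ⟨Pi.mulSingle i q, hB ⟨rfl, fun j => by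
        by_cases h : j = i
        · subst h; simpa using hq
        · simp [Pi.mulSingle_eq_of_ne h]⟩, by simp⟩
  rw [← k]
  exact ⟨x.left, by
    have e : x = inl x.left := SemidirectProduct.ext rfl h1
    rw [SetLike.mem_coe, Subgroup.mem_comap, ← e]; exact hx, rfl⟩

theorem sg_mem_bs {H : ι → Subgroup U} {i : ι} {a : U} (ha : a ∈ H i) : sg i a ∈ Bs H :=
  ⟨rfl, fun j => by
    rw [sg_l]
    by_cases h : j = i
    · subst h; simpa using ha
    · simp [Pi.mulSingle_eq_of_ne h]⟩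

theorem en_of_conj {x : W ι U} (h : ∀ y ∈ Bs fun _ : ι => Q, x * y * x⁻¹ ∈ Bs fun _ : ι => Q) :
    x ∈ En ι (Subgroup.normalizer (Q : Set U)) := fun i =>
  H18.mem_normalizer_of_conj_mem fun q hq => by
    have := (h _ (sg_mem_bs (i := x.right⁻¹ i) hq)).2 i
    rw [conj_l _ _ rfl, sg_l] at this
    simpa using this

theorem norm_le_en (hQ : H18.SylIn 2 Q ⊤) (hS : IsPGroup 2 S) (hB : Bs (fun _ => Q) ≤ S) :
    Subgroup.normalizer (S : Set (W ι U)) ≤ En ι (Subgroup.normalizer (Q : Set U)) := fun _ hx =>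
  en_of_conj fun y hy => mem_bs_of_mem hQ hS hB (conj_mem_of_mem_normalizer hx (hB hy)) (conj_r _ _ hy.1)

theorem three_eq_one {c : Multiplicative (ZMod 3)} {k : ℕ} (h : c ^ 2 ^ k = 1) : c = 1 := by
  have h3 : ∀ c : Multiplicative (ZMod 3), c ^ 3 = 1 := by decide
  exact (pow_eq_one_iff_of_coprime (Nat.Coprime.pow_left k (by norm_num : Nat.Coprime 2 3))).1 ⟨h, h3 c⟩

variable {u : Subgroup.normalizer (Q : Set U) →* Multiplicative (ZMod 3)} {k : ℕ}

theorem sylIn_right (hS : H18.SylIn 2 S ⊤) : H18.SylIn 2 (S.map rightHom) ⊤ := by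
  have := hS.map (rightHom : W ι U →* Perm ι)
  rwa [← MonoidHom.range_eq_map, MonoidHom.range_eq_top.2 rightHom_surjective] at this

theorem exists_right_eq (hk : Fintype.card ι = 2 ^ k) (hS : H18.SylIn 2 S ⊤) (i j : ι) :
    ∃ s ∈ S, s.right i = j := by
  obtain ⟨T, hT⟩ := (sylIn_right hS).exists_sylow_top
  haveI := H16.sylow_trans (G := Perm ι) (α := ι) (by rw [Nat.card_eq_fintype_card, hk]) T
  obtain ⟨⟨t, ht⟩, e⟩ := MulAction.exists_smul_eq T i j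
  have ht' : t ∈ S.map rightHom := hT ▸ ht
  obtain ⟨s, hs, rfl⟩ := ht'
  exact ⟨s, hs, e⟩

theorem right_eq_one (hS : H18.SylIn 2 S ⊤) {g : W ι U} (hg : g ∈ Subgroup.normalizer (S : Set (W ι U)))
    (ho : Odd (orderOf g)) : g.right = 1 := by
  have k1 : g.right ∈ S.map rightHom := sn_perm _ rfl _ (sylIn_right hS) (H18.mem_normalizer_of_conj_mem (by
    rintro _ ⟨s, hs, rfl⟩
    exact ⟨_, conj_mem_of_mem_normalizer hg hs, by simp⟩))
  exact eq_one_of_odd (pEl_of_mem (sylIn_right hS).isP k1) (ho.of_dvd_nat (orderOf_map_dvd rightHom g))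

/-- The value of `u` on the commutator of a base element and an element with entries in `N(Q)`. -/
theorem u_comm {g y : W ι U} (hg : g ∈ En ι (Subgroup.normalizer (Q : Set U))) (hy : y ∈ En ι (Subgroup.normalizer (Q : Set U)))
    (h1 : g.right = 1) (i : ι) (h : (g * y * g⁻¹ * y⁻¹).left i ∈ Subgroup.normalizer (Q : Set U)) :
    u ⟨_, h⟩ = u ⟨_, hg i⟩ * (u ⟨_, hg (y.right⁻¹ i)⟩)⁻¹ := by
  have e : (⟨_, h⟩ : Subgroup.normalizer (Q : Set U)) = ⟨_, hg i⟩ * (⟨_, hy i⟩ * ⟨_, hg (y.right⁻¹ i)⟩⁻¹ * ⟨_, hy i⟩⁻¹) :=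
    Subtype.ext (comm_l g y h1 i)
  rw [e, map_mul, map_mul, map_mul, map_inv, map_inv, mul_inv_cancel_comm]

theorem u_const (hQ : H18.SylIn 2 Q ⊤) (hu : ∀ n, u n = 1 ↔ n.1 ∈ Q) (hk : Fintype.card ι = 2 ^ k)
    (hS : H18.SylIn 2 S ⊤) (hB : Bs (fun _ => Q) ≤ S) {g : W ι U} (hg : g ∈ Subgroup.normalizer (S : Set (W ι U)))
    (h1 : g.right = 1) (i j : ι) :
    u ⟨_, norm_le_en hQ hS.isP hB hg i⟩ = u ⟨_, norm_le_en hQ hS.isP hB hg j⟩ := by
  obtain ⟨s, hs, rfl⟩ := exists_right_eq hk hS j i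
  have k1 := mem_bs_of_mem hQ hS.isP hB (S.mul_mem (conj_mem_of_mem_normalizer hg hs) (S.inv_mem hs)) (comm_r g s h1)
  have k2 := u_comm (u := u) (norm_le_en hQ hS.isP hB hg) (norm_le_en hQ hS.isP hB (Subgroup.le_normalizer hs)) h1
    (s.right j) (Subgroup.le_normalizer (k1.2 _))
  rw [(hu _).2 (k1.2 _), eq_comm, mul_inv_eq_one] at k2
  simpa using k2

theorem chi_of_mem (hS : IsPGroup 2 S) {x : En ι (Subgroup.normalizer (Q : Set U))} (hx : x.1 ∈ S) : chi u x = 1 := by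
  obtain ⟨m, hm⟩ := pEl_of_mem hS hx
  exact three_eq_one (k := m) (by rw [← map_pow, show x ^ 2 ^ m = 1 from Subtype.ext hm, map_one])

theorem mem_of_chi (hQ : H18.SylIn 2 Q ⊤) (hu : ∀ n, u n = 1 ↔ n.1 ∈ Q) (hk : Fintype.card ι = 2 ^ k)
    (hS : H18.SylIn 2 S ⊤) (hB : Bs (fun _ => Q) ≤ S) {g : W ι U} (hg : g ∈ Subgroup.normalizer (S : Set (W ι U)))
    (h : chi u ⟨g, norm_le_en hQ hS.isP hB hg⟩ = 1) : g ∈ S := by
  refine mem_of_odd hS le_rfl (N := Subgroup.normalizer (S : Set (W ι U)) ⊓ (chi u).ker.map (En ι _).subtype)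
    (le_inf le_top inf_le_left) ?_ ⟨hg, _, h, rfl⟩
  rintro _ ⟨hx, x, hx', rfl⟩ ho
  have h1 := right_eq_one hS hx ho
  refine hB ⟨h1, fun i => (hu ⟨_, x.2 i⟩).1 (three_eq_one (k := k) ?_)⟩
  rw [← hk, ← Finset.card_univ, ← Finset.prod_const, ← MonoidHom.mem_ker.1 hx']
  exact Finset.prod_congr rfl fun j _ => u_const hQ hu hk hS hB hx h1 i j

theorem d1 (hQ : H18.SylIn 2 Q ⊤) (hu : ∀ n, u n = 1 ↔ n.1 ∈ Q) (hk : Fintype.card ι = 2 ^ k)
    (hS : H18.SylIn 2 S ⊤) (hB : Bs (fun _ => Q) ≤ S) {a b : W ι U} (ha : a ∈ Subgroup.normalizer (S : Set (W ι U)))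
    (hb : b ∈ Subgroup.normalizer (S : Set (W ι U))) : a * b * a⁻¹ * b⁻¹ ∈ S := by
  refine mem_of_chi hQ hu hk hS hB (mul_mem (mul_mem (mul_mem ha hb) (inv_mem ha)) (inv_mem hb)) ?_
  have : chi u (⟨a, norm_le_en hQ hS.isP hB ha⟩ * ⟨b, norm_le_en hQ hS.isP hB hb⟩ * ⟨a, norm_le_en hQ hS.isP hB ha⟩⁻¹ *
      ⟨b, norm_le_en hQ hS.isP hB hb⟩⁻¹) = 1 := by
    rw [map_mul, map_mul, map_mul, map_inv, map_inv, mul_inv_cancel_comm, mul_inv_cancel]
  exact this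

theorem d2_triv (hQ : H18.SylIn 2 Q ⊤) (hu : ∀ n, u n = 1 ↔ n.1 ∈ Q) (hk : Fintype.card ι = 2 ^ k)
    (hS : H18.SylIn 2 S ⊤) (hB : Bs (fun _ => Q) ≤ S) (h : ∀ n, u n = 1) :
    Subgroup.normalizer (S : Set (W ι U)) ≤ S := fun _ hg =>
  mem_of_chi hQ hu hk hS hB hg (Finset.prod_eq_one fun _ _ => h _)

theorem d2 (hQ : H18.SylIn 2 Q ⊤) (hu : ∀ n, u n = 1 ↔ n.1 ∈ Q) (hk : Fintype.card ι = 2 ^ k)
    (hS : H18.SylIn 2 S ⊤) (hB : Bs (fun _ => Q) ≤ S) {K : Subgroup (W ι U)} (hK : S ≤ K)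
    {x : En ι (Subgroup.normalizer (Q : Set U))} (hx : x.1 ∈ K) (hc : chi u x ≠ 1) :
    Subgroup.normalizer (S : Set (W ι U)) ≤ K := by
  have hN := norm_le_en hQ hS.isP hB
  have hM : H18.SylIn 2 S (K ⊓ (chi u).ker.map (En ι _).subtype) :=
    hS.mono (fun s hs => ⟨hK hs, ⟨s, hN (Subgroup.le_normalizer hs)⟩, chi_of_mem hS.isP hs, rfl⟩) le_top
  obtain ⟨_, ⟨hm, m, hm', rfl⟩, hy⟩ := hM.frattini (g := x.1) (H18.mem_normalizer_of_conj_mem (by
    rintro _ ⟨h1, m, h2, rfl⟩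
    exact ⟨K.mul_mem (K.mul_mem hx h1) (K.inv_mem hx), x * m * x⁻¹, (MonoidHom.normal_ker _).conj_mem _ h2 _, rfl⟩))
  have hyK : (m * x).1 ∈ K := K.mul_mem hm hx
  have hyc : chi u (m * x) ≠ 1 := by rwa [map_mul, MonoidHom.mem_ker.1 hm', one_mul]
  change (m * x).1 ∈ _ at hy
  generalize m * x = y at hy hyK hyc
  intro g hg
  have h3 : ∀ a c : Multiplicative (ZMod 3), c ≠ 1 → a * c ^ 0 = 1 ∨ a * c ^ 1 = 1 ∨ a * c ^ 2 = 1 := by decide
  obtain ⟨j, hj⟩ : ∃ j : ℕ, chi u ⟨g, hN hg⟩ * chi u y ^ j = 1 := by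
    rcases h3 (chi u ⟨g, hN hg⟩) _ hyc with h | h | h <;> exact ⟨_, h⟩
  rw [← map_pow, ← map_mul] at hj
  have := hK (mem_of_chi hQ hu hk hS hB (mul_mem hg (pow_mem hy j)) hj)
  exact (K.mul_mem_cancel_right (K.pow_mem hyK j)).1 this

theorem chi_sg (i : ι) (n : Subgroup.normalizer (Q : Set U)) (h : (sg i n.1 : W ι U) ∈ En ι (Subgroup.normalizer (Q : Set U))) :
    chi u ⟨_, h⟩ = u n := by
  refine (Finset.prod_eq_single i (fun j _ hj => ?_) (by simp)).trans ?_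
  · exact (congrArg u (Subtype.ext (by simp [sg_l, Pi.mulSingle_eq_of_ne hj]))).trans u.map_one
  · exact congrArg u (Subtype.ext (by simp [sg_l]))

theorem d3 (hQ : H18.SylIn 2 Q ⊤) (hu : ∀ n, u n = 1 ↔ n.1 ∈ Q) (hk : Fintype.card ι = 2 ^ k)
    (hS : H18.SylIn 2 S ⊤) (hB : Bs (fun _ => Q) ≤ S)
    (hU : ∀ L : Subgroup U, Q ≤ L → ∀ n ∈ Subgroup.normalizer (Q : Set U), n ∈ L ⊔ cjs L n ∨ cjs L n = L)
    {H : Subgroup (W ι U)} (hH : S ≤ H) {g : W ι U} (hg : g ∈ Subgroup.normalizer (S : Set (W ι U)))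
    (ho : Odd (orderOf g))
    (hG : ∀ (i : ι) (n : Subgroup.normalizer (Q : Set U)), sg i n.1 ∈ H ⊔ cjs H g → u n = 1) : cjs H g = H := by
  have hN := norm_le_en hQ hS.isP hB
  have h1 := right_eq_one hS hg ho
  have hQ' : ∀ i, Q ≤ H.comap (sg i) := fun i q hq => hH (hB (sg_mem_bs hq))
  have k1 : ∀ i, ∀ a ∈ H.comap (sg i), g.left i * a * (g.left i)⁻¹ ∈ H.comap (sg i) := fun i a ha => by
    rcases hU _ (hQ' i) _ (hN hg i) with h | h
    · have : (H.comap (sg i) ⊔ cjs (H.comap (sg i)) (g.left i)) ≤ (H ⊔ cjs H g).comap (sg i) :=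
        sup_le (Subgroup.comap_mono le_sup_left) (by
          rintro _ ⟨b, hb, rfl⟩
          refine Subgroup.mem_sup_right ⟨_, hb, ?_⟩
          have := conj_sg g i b
          rw [h1] at this
          exact this)
      have k := hQ' i ((hu ⟨_, hN hg i⟩).1 (hG i ⟨_, hN hg i⟩ (this h)))
      exact mul_mem (mul_mem k ha) (inv_mem k)
    · exact h ▸ ⟨a, ha, rfl⟩
  have hP : Bs (fun i => H.comap (sg i)) ≤ H := fun x hx => mem_of_sg hx.1 hx.2
  have hPn : ∀ h ∈ H, ∀ x ∈ Bs (fun i => H.comap (sg i)), h * x * h⁻¹ ∈ Bs (fun i => H.comap (sg i)) := fun h hh x hx =>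
    ⟨conj_r _ _ hx.1, fun i => by
      have := H.mul_mem (H.mul_mem hh (hx.2 (h.right⁻¹ i))) (H.inv_mem hh)
      rw [conj_sg] at this
      rw [conj_l _ _ hx.1, Subgroup.mem_comap]
      simpa using this⟩
  have hSP : H18.SylIn 2 (Bs fun _ => Q) (Bs fun i => H.comap (sg i)) := by
    have := (hS.mono hH le_top).inf_of_normal (N := Bs fun i => H.comap (sg i)) fun h hh x hx _ => hPn h hh x hx
    rw [inf_eq_right.2 hP] at this
    convert this using 1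
    exact le_antisymm (le_inf hB fun x hx => ⟨hx.1, fun i => hQ' i (hx.2 i)⟩)
      fun x hx => mem_bs_of_mem hQ hS.isP hB hx.1 hx.2.1
  refine cjs_eq_of_conj_mem fun h hh => ?_
  obtain ⟨p, hp, hy⟩ := hSP.frattini (g := h) (H18.mem_normalizer_of_conj_mem (hPn h hh))
  have hyE : p * h ∈ En ι (Subgroup.normalizer (Q : Set U)) := en_of_conj fun y h' => conj_mem_of_mem_normalizer hy h'
  have hyH : p * h ∈ H := H.mul_mem (hP hp) hh
  have k2 : g * (p * h) * g⁻¹ * (p * h)⁻¹ ∈ H := hH (hB ⟨comm_r _ _ h1, fun i => by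
    have hE := mul_mem (mul_mem (mul_mem (hN hg) hyE) (inv_mem (hN hg))) (inv_mem hyE)
    refine (hu ⟨_, hE i⟩).1 ?_
    rw [u_comm (hN hg) hyE h1, u_const hQ hu hk hS hB hg h1 i, mul_inv_cancel]⟩)
  have k3 : g * p * g⁻¹ ∈ H := hP ⟨conj_r _ _ hp.1, fun i => by
    rw [conj_l _ _ hp.1, h1]
    exact k1 i _ (hp.2 i)⟩
  have := H.mul_mem (H.inv_mem k3) (H.mul_mem k2 hyH)
  simpa [mul_assoc] using this

end Cfsg.Agent.H13.Pn
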