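import Cfsg.Agent.H9.SeN
import Cfsg.Agent.H19.CoxA

/-! The `3`-local characterization of `S₈`: construction of the symmetric subgroup. -/

set_option autoImplicit false
set_option linter.unusedVariables false

namespace Cfsg.Agent.L1Se

open Subgroup Equiv

universe u

variable {G : Type u} [Group G] [Finite G] {ε : W →* G} {σ : G} {φ : Perm (Fin 6) →* G}

theorem pA1x_d3 : ∀ s : Perm (Fin 6), s * swap 1 2 = swap 1 2 * s → s * swap 3 4 = swap 3 4 * s →
    (s * swap 0 1) ^ 3 = 1 → s * s = 1 → s = swap 1 2 ∨ s = swap 0 5 := by decide +kernel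

theorem pA1x_d6 : ∀ s : Perm (Fin 6), s * swap 0 1 = swap 0 1 * s → s * s = 1 →
    (s * swap 1 2) ^ 3 = 1 → (s * swap 3 4) ^ 3 = 1 → s = swap 2 3 ∨ s = swap 2 4 := by decide +kernel

theorem pA1x_gen {n : ℕ} {H : Subgroup G} (ψ : Perm (Fin (n + 1)) →* G)
    (h : ∀ i : Fin n, ψ (swap i.castSucc i.succ) ∈ H) (p : Perm (Fin (n + 1))) : ψ p ∈ H := by
  have : (⊤ : Submonoid (Perm (Fin (n + 1)))) ≤ (H.comap ψ).toSubmonoid := by
    rw [← Perm.mclosure_swap_castSucc_succ n, Submonoid.closure_le]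
    rintro _ ⟨i, rfl⟩
    exact h i
  exact this (Submonoid.mem_top p)

theorem pA1x_cm (h : SA ε σ eA) (h6 : S6 ε eA φ) : Commute (φ (swap 2 3)) (ε (1, swap 2 3)) := by
  let θ := MulAut.conj (ε uE * σ)
  have θa : ∀ y, θ y = ε uE * (σ * y * σ⁻¹) * (ε uE)⁻¹ := fun y => by
    change ε uE * σ * y * (ε uE * σ)⁻¹ = _; group
  have bk : ∀ {a b : G}, σ * a * σ⁻¹ = b → σ * b * σ⁻¹ = a := fun {a b} e => by
    rw [← e]
    calc _ = (σ * σ) * a * (σ * σ)⁻¹ := by group
      _ = a := by rw [h.ss]; group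
  have cj : ∀ a b : W, uE * a * uE⁻¹ = b → ε uE * ε a * (ε uE)⁻¹ = ε b := fun a b e => by
    rw [← e, map_mul, map_mul, map_inv]
  have p5 : φ (swap 4 5) = ε eA * ε zF := by
    rw [← h6.a3, ← h6.a4, ← map_mul]; congr 1; decide
  have p2 : φ (swap 1 2) = ε eE * ε zE := by
    rw [← h6.a1, ← h6.a2, ← map_mul]; congr 1; decide
  have q1 : θ (φ (swap 0 1)) = ε tE := by rw [θa, h6.a1, h.se]; exact cj _ _ (by decide)
  have q4' : θ (ε eA) = ε eE := by rw [θa, bk h.se]; exact cj _ _ (by decide)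
  have q4 : θ (φ (swap 3 4)) = φ (swap 0 1) := by rw [h6.a3, h6.a1, q4']
  have q5 : θ (φ (swap 4 5)) = φ (swap 1 2) := by
    rw [p5, p2, map_mul, q4', θa, bk h.sz, cj zE zE (by decide)]
  have q7 : θ (ε tE) = φ (swap 3 4) := by rw [θa, h.st, h6.a3]; exact cj _ _ (by decide)
  have tt : ε tE * ε tE = 1 := by rw [← map_mul, show tE * tE = 1 by decide, map_one]
  have cτ : ∀ s, Commute (φ s) (ε tE) := fun s => (h6.cen _).2 (.inl ⟨s, rfl⟩)
  have lift : ∀ (x : G) (c : Perm (Fin 6)), Commute x (ε tE) → (x * φ c) ^ 3 = 1 → ∃ s, φ s = x := fun x c h1 h2 => by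
    rcases (h6.cen x).1 h1 with e | ⟨s, e⟩
    · exact e
    · exfalso
      have e2 : x = ε tE * φ s := by rw [e, ← mul_assoc, tt, one_mul]
      rw [e2, mul_assoc, ← map_mul, (cτ _).symm.mul_pow, pow_succ, pow_two, tt, one_mul, ← map_pow] at h2
      exact h6.nt ⟨_, (map_inv φ _).trans (eq_inv_of_mul_eq_one_left h2).symm⟩
  have c3 : ∀ a b : Perm (Fin 6), a * b = b * a → Commute (θ (φ a)) (θ (φ b)) := fun a b e =>
    (Commute.map (show Commute a b from e) φ).map θ
  have c6 : ∀ a b : W, a * b = b * a → Commute (θ (ε a)) (θ (ε b)) := fun a b e =>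
    (Commute.map (show Commute a b from e) ε).map θ
  have b3 : (θ (φ (swap 2 3)) * φ (swap 0 1)) ^ 3 = 1 := by
    rw [← q4, ← map_mul, ← map_mul, ← map_pow, ← map_pow, show (swap (2 : Fin 6) 3 * swap 3 4) ^ 3 = 1 by decide,
      map_one, map_one]
  have b6 : (θ (ε (1, swap 2 3)) * φ (swap 3 4)) ^ 3 = 1 := by
    rw [← q7, ← map_mul, ← map_mul, ← map_pow, ← map_pow, show (((1, swap 2 3) : W) * tE) ^ 3 = 1 by decide,
      map_one, map_one]
  have b6' : (θ (ε (1, swap 2 3)) * φ (swap 1 2)) ^ 3 = 1 := by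
    rw [← q5, p5, ← map_mul ε, ← map_mul, ← map_mul, ← map_pow, ← map_pow,
      show (((1, swap 2 3) : W) * (eA * zF)) ^ 3 = 1 by decide, map_one, map_one]
  obtain ⟨s3, e3⟩ := lift _ _ (q1 ▸ c3 _ _ (by decide)) b3
  obtain ⟨s6, e6⟩ := lift _ _ (by rw [← q1, h6.a1]; exact c6 _ _ (by decide)) b6
  have k3 := pA1x_d3 s3 (h6.inj (by rw [map_mul, map_mul, e3, ← q5]; exact c3 _ _ (by decide)))
    (h6.inj (by rw [map_mul, map_mul, e3, ← q7]; exact (cτ _).map θ))
    (h6.inj (by rw [map_pow, map_mul, e3, b3, map_one]))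
    (h6.inj (by rw [map_mul, e3, ← map_mul, ← map_mul, swap_mul_self]; simp only [map_one]))
  have k6 := pA1x_d6 s6 (h6.inj (by rw [map_mul, map_mul, e6, ← q4, h6.a3]; exact c6 _ _ (by decide)))
    (h6.inj (by rw [map_mul, e6, ← map_mul, ← map_mul, show ((1, swap 2 3) : W) * (1, swap 2 3) = 1 by decide,
      map_one, map_one, map_one]))
    (h6.inj (by rw [map_pow, map_mul, e6, b6', map_one])) (h6.inj (by rw [map_pow, map_mul, e6, b6, map_one]))
  have k3' : s3 = swap 0 5 := k3.resolve_left fun e => by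
    rw [e, ← q5] at e3
    exact absurd (h6.inj (θ.injective e3)) (by decide)
  have : Commute s3 s6 := by
    rw [k3']
    rcases k6 with rfl | rfl <;> (unfold Commute SemiconjBy; decide)
  apply θ.injective
  rw [map_mul, map_mul, ← e3, ← e6]
  exact this.map φ

theorem pA1x (h : SA ε σ eA) (h6 : S6 ε eA φ) : ∃ f : Perm (Fin 8) →* G, SH f := by
  have p5 : φ (swap 4 5) = ε (1, swap 1 2) := by
    rw [show swap (4 : Fin 6) 5 = swap 3 4 * (swap 3 4 * swap 4 5) by decide, map_mul, h6.a3, h6.a4, ← map_mul]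
    congr 1; decide
  have p2 : φ (swap 1 2) = ε (swap 1 2, 1) := by
    rw [show swap (1 : Fin 6) 2 = swap 0 1 * (swap 0 1 * swap 1 2) by decide, map_mul, h6.a1, h6.a2, ← map_mul]
    congr 1; decide
  have cτ : ∀ s, Commute (φ s) (ε tE) := fun s => (h6.cen _).2 (.inl ⟨s, rfl⟩)
  have c3 : ∀ a b : Perm (Fin 6), a * b = b * a → Commute (φ a) (φ b) := fun a b e =>
    Commute.map (show Commute a b from e) φ
  have c6 : ∀ a b : W, a * b = b * a → Commute (ε a) (ε b) := fun a b e => Commute.map (show Commute a b from e) ε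
  have b3 : ∀ a b : Perm (Fin 6), a * b * a = b * a * b → φ a * φ b * φ a = φ b * φ a * φ b := fun a b e => by
    simpa only [map_mul] using congrArg φ e
  have b6 : ∀ a b : W, a * b * a = b * a * b → ε a * ε b * ε a = ε b * ε a * ε b := fun a b e => by
    simpa only [map_mul] using congrArg ε e
  have s3 : ∀ a : Perm (Fin 6), a * a = 1 → φ a * φ a = 1 := fun a e => by rw [← map_mul, e, map_one]
  have s6 : ∀ a : W, a * a = 1 → ε a * ε a = 1 := fun a e => by rw [← map_mul, e, map_one]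
  let s : ℕ → G := fun i => [φ (swap 0 1), φ (swap 1 2), φ (swap 2 3), φ (swap 3 4), φ (swap 4 5),
    ε (1, swap 2 3), ε tE].getD i 1
  have hc : H19.CoxA s 7 := by
    refine ⟨fun i hi => ?_, fun i hi => ?_, fun i j h1 h2 => ?_⟩
    · interval_cases i
      exacts [s3 _ (by decide), s3 _ (by decide), s3 _ (by decide), s3 _ (by decide), s3 _ (by decide),
        s6 _ (by decide), s6 _ (by decide)]
    · have : i < 6 := by omega
      interval_cases i
      exacts [b3 _ _ (by decide), b3 _ _ (by decide), b3 _ _ (by decide), b3 _ _ (by decide),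
        by change φ (swap 4 5) * ε _ * φ (swap 4 5) = ε _ * φ (swap 4 5) * ε _; rw [p5]; exact b6 _ _ (by decide),
        b6 _ _ (by decide)]
    · have : i < 5 := by omega
      interval_cases i <;> interval_cases j
      exacts [c3 _ _ (by decide), c3 _ _ (by decide), c3 _ _ (by decide),
        by change Commute (φ (swap 0 1)) (ε _); rw [h6.a1]; exact c6 _ _ (by decide), cτ _,
        c3 _ _ (by decide), c3 _ _ (by decide),
        by change Commute (φ (swap 1 2)) (ε _); rw [p2]; exact c6 _ _ (by decide), cτ _,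
        c3 _ _ (by decide), pA1x_cm h h6, cτ _,
        by change Commute (φ (swap 3 4)) (ε _); rw [h6.a3]; exact c6 _ _ (by decide), cτ _, cτ _]
  obtain ⟨f, hf, -⟩ := hc.exists_hom
  have f0 : f (swap 0 1) = φ (swap 0 1) := hf 0 (by decide)
  have f1 : f (swap 1 2) = φ (swap 1 2) := hf 1 (by decide)
  have f2 : f (swap 2 3) = φ (swap 2 3) := hf 2 (by decide)
  have f3 : f (swap 3 4) = φ (swap 3 4) := hf 3 (by decide)
  have f4 : f (swap 4 5) = φ (swap 4 5) := hf 4 (by decide)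
  have f5 : f (swap 5 6) = ε (1, swap 2 3) := hf 5 (by decide)
  have f6 : f (swap 6 7) = ε tE := hf 6 (by decide)
  have r6 : ∀ p, φ p ∈ f.range := pA1x_gen (n := 5) φ fun i => by
    fin_cases i
    exacts [⟨_, f0⟩, ⟨_, f1⟩, ⟨_, f2⟩, ⟨_, f3⟩, ⟨_, f4⟩]
  have rε : ∀ w, ε w ∈ f.range := fun ⟨a, b⟩ => by
    have h1 := pA1x_gen (n := 2) (H := f.range) (ε.comp (MonoidHom.inl _ _)) (fun i => by
      fin_cases i
      exacts [⟨_, f0.trans h6.a1⟩, ⟨_, f1.trans p2⟩]) a
    have h2 := pA1x_gen (n := 4) (H := f.range) (ε.comp (MonoidHom.inr _ _)) (fun i => by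
      fin_cases i
      exacts [⟨_, f3.trans h6.a3⟩, ⟨_, f4.trans p5⟩, ⟨_, f5⟩, ⟨_, f6⟩]) b
    have := mul_mem h1 h2
    rw [MonoidHom.comp_apply, MonoidHom.comp_apply, ← map_mul] at this
    simpa using this
  have cT : ∀ g, Commute g (ε tE) → g ∈ f.range := fun g hg => by
    rcases (h6.cen g).1 hg with ⟨p, rfl⟩ | ⟨p, e⟩
    · exact r6 p
    · exact (mul_mem_cancel_left (rε tE)).1 (e ▸ r6 p)
  have fz : f (swap 0 1 * swap 1 2) = ε zE := by rw [map_mul, f0, f1, ← map_mul, h6.a2]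
  have fz' : f (swap 3 4 * swap 4 5) = ε zF := by rw [map_mul, f3, f4, ← map_mul, h6.a4]
  refine ⟨f, H19.inj_perm (n := 7) (by decide) f fun e => ?_, fun g hg => cT g (f6 ▸ hg), fun g hg => ?_,
    fun g hg => ?_, h.syl⟩
  · rw [hf 0 (by decide), hf 1 (by decide)] at e
    exact absurd (h6.inj e) (by decide)
  · rw [fz] at hg
    obtain ⟨w, rfl⟩ := (h.rng g).2 (centralizer_le_normalizer _ fun y ⟨k, hk⟩ => hk ▸ (hg.zpow_right k).symm.eq)
    exact rε w
  · rw [map_mul, fz, fz'] at hg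
    obtain ⟨i, j, k, rfl | rfl⟩ := pN_cy h hg
    · exact rε _
    · exact mul_mem (rε _) (cT σ (mul_inv_eq_iff_eq_mul.1 h.st))

end Cfsg.Agent.L1Se
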