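import Cfsg.Agent.GO.Fs
import Cfsg.Agent.JR.Red

/-! Simple groups in which a four-group containing a `2`-central involution lies in a unique Sylow `2`-subgroup. -/

set_option autoImplicit false
set_option linter.unusedSectionVars false
set_option linter.unusedVariables false

namespace Cfsg.Agent.H13s

open Cfsg Subgroup Cfsg.Agent.FT Cfsg.Agent.GW Cfsg.Agent.GO

universe u

variable {G : Type u} [Group G] [Finite G] {S T U L V : Subgroup G} {t v w z : G}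

/-- a four-group containing a `2`-central involution lies in only one Sylow `2`-subgroup -/
def U4 (G : Type u) [Group G] : Prop :=
  ∀ (S T U : Subgroup G) (z w : G), Syl 2 S ⊤ → Syl 2 T ⊤ → Syl 2 U ⊤ → U ≤ C[z] → Fr z w →
    z ∈ S → w ∈ S → z ∈ T → w ∈ T → S = T

theorem U4.cen (h : U4 G) (hS : Syl 2 S ⊤) (hU : Syl 2 U ⊤) (hz : Invo z) (zS : z ∈ S) (hc : U ≤ C[z]) :
    S ≤ C[z] := by
  obtain ⟨w, hw, iw⟩ := exists_invo ((hS.pi.mono inf_le_left).dvd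
    (hS.pi.nil.center_ne_bot (ne_bot_of_mem zS hz.ne)))
  by_cases e : w = z
  · exact e ▸ le_cen1.2 hw.2
  have f : Fr z w := ⟨hz, iw, mem_cen.1 hw.2 z zS, e⟩
  obtain ⟨P, hP, h1⟩ := f.pGrp.exists_syl f.V_le_cen
  have h2 := hU.of_card_eq le_top (hP.card_eq (hU.subl hc le_top))
  exact h S P U z w hS h2 hU hc f zS hw.1 (h1 f.l_mem) (h1 f.r_mem) ▸ hP.le

theorem U4.closed (h : U4 G) (hS : Syl 2 S ⊤) : IsStronglyClosed Ω[2](Z(S)) S := by
  have he := (ab_center S).abelem_Ohm 2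
  refine ⟨(Ohm_le _ _).trans inf_le_left, fun x hx g hg => ?_⟩
  by_cases e : x = 1
  · simp [e]
  have h1 : Invo x := invo_of (he.mul_self hx) e
  refine mem_Ohm ⟨hg, le_cen1.1 (h.cen hS (hS.cj_mem (mem_top g)) (h1.conj g) hg ?_)⟩ (by rw [sq, (h1.conj g).sq])
  rw [← cj_cen1, cj_le_cj]
  exact le_cen1.2 (Ohm_le _ _ hx).2

theorem U4.tyG [IsSimpleGroup G] (h : U4 G) (nab : ¬ IsMulCommutative G) : TyG G := by
  obtain ⟨S, hS⟩ := exists_syl 2 (⊤ : Subgroup G)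
  exact gs_simple fs nab hS ((ab_center S).mono (Ohm_le _ _)) (h.closed hS) (Ohm_ne_bot Nat.prime_two
    ((hS.pi.mono inf_le_left).dvd (hS.pi.nil.center_ne_bot (syl_ne nab hS))))

/-- Janko's group: the case in which the centraliser of a four-group is `2`-closed -/
theorem tj_five (h : TJ G) (hT : Syl 2 T ⊤) (ht : Invo t) (tT : t ∈ T)
    (hn : ∀ v ∈ T, Fr t v → C[t] ⊓ C[v] ≤ N(T)) : ∃ L, JR.Hy t L 5 := by
  obtain ⟨hel, h8⟩ := h.top.el hT
  obtain ⟨L, j⟩ := h.top.jl hT tT ht.ne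
  have hnml := j.nml
  have hc := j.cen
  rw [top_inf_eq] at hnml hc
  have s := j.s4
  obtain ⟨v, hv, iv⟩ := exists_invo (H := T ⊓ L) (by rw [s.card]; decide)
  have f : Fr t v := ⟨ht, iv, hel.ab.comm tT hv.1, fun e => j.inf (e ▸ hv.2)⟩
  have dh := dh_of_four s.card (fun x hx => hel.mul_self hx.1) hv iv.ne
  have k1 : ∀ y ∈ C[t] ⊓ C[v], Odd (orderOf y) → y ∈ C(T ⊓ L) := fun y hy ho =>
    zpowers_le.1 (dh.cents (by rwa [card_zpowers']) (zpowers_le.2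
      (normsI (hn v hv.1 f) (inf_le_left.trans hnml.nrm) hy)) (.inr (zpowers_le.2 hy.2)))
  have k0 : ∀ K ≤ C[t] ⊓ C[v], (∀ y ∈ K, Odd (orderOf y) → y * y = 1) → K ≤ T := fun K hK h1 =>
    (hT.subl (hel.ab.norms le_rfl) le_top).le_of_nml le_rfl (fun p hp hd => by
      obtain ⟨y, hy, ho⟩ := exists_elt_of_prime_dvd hp hd
      by_contra e
      have h2 : Odd (orderOf y) := ho ▸ hp.odd_of_ne_two e
      rw [eq_one_of_sq h2 (h1 y hy h2), orderOf_one] at ho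
      exact hp.one_lt.ne ho) (hK.trans (hn v hv.1 f))
  have k2 : L ⊓ C[v] ≤ T := k0 _ (inf_le_inf_right _ hnml.le) fun y hy ho =>
    hel.mul_self (s.cenV ⟨hy.1, k1 y ⟨hnml.le hy.1, hy.2⟩ ho⟩).1
  have k3 : C[t] ⊓ C[v] ≤ T := k0 _ le_rfl fun y hy ho => by
    have h1 := k1 y hy ho
    have h2 := s.fix ⟨hnml.nrm hy.1, h1⟩ ho hv iv.ne fun x hx => mem_cen1.2 (mem_cen.1 h1 x ⟨k2 hx, hx.1⟩)
    exact hel.mul_self (zpowers_le.2 tT (hc.le ⟨hy.1, h2⟩))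
  haveI := s.simple
  obtain ⟨F, _, _, ⟨h1, h2⟩, ⟨e⟩⟩ := psl4 (G := L) s.nab ((hall_so_top s.syl.le).2 s.syl)
    (by rw [card_so s.syl.le, s.card])
  rw [← Nat.card_eq_fintype_card] at h1 h2
  have l2 := (JR.psl_l2 h1).of_equiv (e.trans (H10.pslEquiv F))
  obtain ⟨R, hR⟩ := l2.tor v hv.2 iv
  have h3 : #(L ⊓ C[v]) ≤ 4 := s.card ▸ card_le_of_le (le_inf k2 inf_le_left)
  have h4 := hR.card
  have h5 := card_pos R
  rw [hR.cc] at h3
  rw [show #R = 1 by omega] at h4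
  have h6 : Nat.card F = 5 := by
    split_ifs at h4 with h6
    · rw [abs_of_nonneg (by omega)] at h4; omega
    · rw [abs_of_nonpos (by omega)] at h4; omega
  rw [h6] at l2
  refine ⟨L, ht, by simpa using l2, ⟨hnml.le.trans (cen_zpowers t).ge, le_antisymm (sup_le (zpowers_le_cen1 t) hnml.le)
    fun g hg => ?_, eq_bot_iff.2 fun x hx => (ht.mem_zpowers.1 hx.1).resolve_right fun c => j.inf (c ▸ hx.2)⟩, h.cl⟩
  obtain ⟨l, hl, h7⟩ := l2.one _ (conj_mem (hnml.nrm hg) hv.2) v hv.2 (iv.conj g) iv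
  have h9 : l * g ∈ ⟪t⟫ ⊔ L := (j.sup.ge.trans (sup_le_sup_left inf_le_right _)) (k3 ⟨mul_mem (hnml.le hl) hg,
    mem_cen1.2 (mul_inv_eq_iff_eq_mul.1 (Eq.trans (by group) h7))⟩)
  exact (mul_mem_cancel_left (mem_sup_right hl)).1 h9

theorem U4.tj (h : U4 G) (c : TJ G) : Nat.card G = 175560 := by
  haveI := c.simple
  obtain ⟨T, hT⟩ := exists_syl 2 (⊤ : Subgroup G)
  obtain ⟨t, tT, ht⟩ := exists_invo (hT.pi.dvd (syl_ne c.nab hT))
  have hab := (c.top.el hT).1.ab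
  have k : ∀ g x : G, g ∈ C[x] → x ∈ T → x ∈ cj g T := fun g x hg hx => by
    have := (conj_mem_cj (g := g)).2 hx
    rwa [mem_cen1.1 hg, mul_inv_cancel_right] at this
  obtain ⟨L, hy⟩ := tj_five c hT ht tT fun v hv f g hg => cj_eq_self.1 (h _ T T t v (hT.cj_mem (mem_top g)) hT hT
    (hab.le_cen1 tT) f (k g t hg.1 tT) (k g v hg.2 hv) tT hv)
  exact hy.five

theorem u4_of (h : ∀ S T : Sylow 2 G, S ≠ T →
      ((S : Subgroup G) ⊓ (T : Subgroup G) = ⊥ ∨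
        ∃ z ∈ (S : Subgroup G) ⊓ (T : Subgroup G), orderOf z = 2 ∧
          ∃ U : Sylow 2 G, z ∈ (center ↥(U : Subgroup G)).map (U : Subgroup G).subtype) →
      PRankLE 2 1 ↥((S : Subgroup G) ⊓ (T : Subgroup G))) : U4 G := by
  intro S T U z w hS hT hU hc f h1 h2 h3 h4
  obtain ⟨S, rfl⟩ := (syl_top_iff Nat.prime_two).1 hS
  obtain ⟨T, rfl⟩ := (syl_top_iff Nat.prime_two).1 hT
  have zU : z ∈ U := hU.mem_of_cen trivial f.l.pElt (le_cen1.1 hc)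
  obtain ⟨U, rfl⟩ := (syl_top_iff Nat.prime_two).1 hU
  by_contra hne
  have := (prank_le_iff Nat.prime_two).2 (h S T (fun e => hne (e ▸ rfl)) (.inr ⟨z, ⟨h1, h3⟩, f.l, U,
    center_eq_map (U : Subgroup G) ▸ ⟨zU, le_cen1.1 hc⟩⟩))
  have h5 := Abelem.card_le ⟨f.ab, fun x hx => (sq x).trans (f.sq hx)⟩ Nat.prime_two (f.V_le (mem_inf.2 ⟨h1, h3⟩) (mem_inf.2 ⟨h2, h4⟩))
    this
  rw [f.card] at h5
  omega

end Cfsg.Agent.H13s
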