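import Mathlib
import Cfsg.Agent.H13.SzEasy

/-!
The minimal degree of a non-trivial complex representation of a Suzuki group.
-/

set_option autoImplicit false
namespace Cfsg.Agent.H13
open Matrix MulAction Subgroup Module

namespace SzData

variable {G : Type*} [Group G] {F : Type*} [Field F] (S : SzData G F)

/-- The absolute trace. -/
theorem exists_trace : ∃ T : F →+ ZMod 2, (∀ x, T (S.θ x) = T x) ∧ ∃ x, T x = 1 := by
  have := S.charP
  have := S.finiteF
  let := ZMod.algebra F 2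
  let e : F ≃ₐ[ZMod 2] F := AlgEquiv.ofRingEquiv (f := RingEquiv.ofBijective S.θ ⟨S.θ.injective, S.θ_surjective⟩)
    fun x => congrFun (congrArg DFunLike.coe (RingHom.ext_zmod (S.θ.comp (algebraMap (ZMod 2) F))
      (algebraMap (ZMod 2) F))) x
  exact ⟨(Algebra.trace (ZMod 2) F).toAddMonoidHom, fun x => Algebra.trace_eq_of_algEquiv e x,
    Algebra.trace_surjective (ZMod 2) F 1⟩

theorem exists_sign : ∃ χ : F → ℂ, (∀ x y, χ (x + y) = χ x * χ y) ∧ χ 0 = 1 ∧ (∀ x, χ (S.θ x) = χ x) ∧
    (∃ x, χ x = -1) ∧ ∀ a : F, a ≠ 0 → ∃ A : AddSubgroup F, a ∉ A ∧ Nat.card A = 2 ^ (2 * S.m) := by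
  obtain ⟨T, h1, x, h2⟩ := S.exists_trace
  refine ⟨fun x => if T x = 0 then 1 else -1, fun x y => ?_, by simp, fun x => by simp only [h1],
    ⟨x, by simp [h2]⟩, fun a ha => ?_⟩
  · simp only [map_add]
    generalize T x = a
    generalize T y = b
    have h : ∀ a : ZMod 2, a = 0 ∨ a = 1 := by decide
    have h' : (1 : ZMod 2) + 1 = 0 := rfl
    rcases h a with rfl | rfl <;> rcases h b with rfl | rfl <;> simp [h']
  · let f : F →+ ZMod 2 := T.comp (AddMonoidHom.mulLeft (x / a))
    have h3 : f a = 1 := by simp [f, div_mul_cancel₀ _ ha, h2]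
    refine ⟨f.ker, by simp [h3], ?_⟩
    have h4 : f.range = ⊤ := by
      rw [eq_top_iff]
      intro y _
      fin_cases y
      · exact ⟨0, map_zero _⟩
      · exact ⟨a, h3⟩
    have h5 := f.ker.index_mul_card
    rw [AddSubgroup.index_ker, h4, AddSubgroup.card_top, Nat.card_zmod, S.card, pow_succ'] at h5
    omega

theorem le_finrank_of_rep {V : Type*} [AddCommGroup V] [Module ℂ V] [Module.Finite ℂ V] (ρ : Representation ℂ G V)
    (hρ : ρ (S.u 0 1) ≠ 1) : 2 ^ S.m * (S.q - 1) ≤ finrank ℂ V := by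
  classical
  have := S.charP
  have := S.finiteF
  let := Fintype.ofFinite F
  obtain ⟨χ, hadd, h0, hθ, ⟨x₀, hx₀⟩, hA⟩ := S.exists_sign
  have hsq : ∀ x, χ x * χ x = 1 := fun x => by rw [← hadd, CharTwo.add_self_eq_zero, h0]
  have hsum : ∀ b, ∑ c, χ (c * b) = if b = 0 then (S.q : ℂ) else 0 := fun b => by
    split_ifs with hb
    · simp [hb, h0, ← Nat.card_eq_fintype_card, S.card]
    · have h1 : ∑ c, χ (c * b) = ∑ c, χ ((c + x₀ / b) * b) :=
        (Fintype.sum_equiv (Equiv.addRight (x₀ / b)) _ _ fun _ => rfl).symm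
      simp only [add_mul, hadd, div_mul_cancel₀ _ hb, hx₀, mul_neg, mul_one, Finset.sum_neg_distrib] at h1
      exact self_eq_neg.1 h1
  have hq : (S.q : ℂ) ≠ 0 := by
    have := S.eight_le_q
    exact_mod_cast (by omega : S.q ≠ 0)
  let W : F → Submodule ℂ V := fun c =>
    { carrier := {v | ∀ b, ρ (S.u 0 b) v = χ (c * b) • v}
      add_mem' := fun hv hw b => by rw [map_add, hv, hw, smul_add]
      zero_mem' := fun b => by simp
      smul_mem' := fun a v hv b => by rw [map_smul, hv, smul_comm] }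
  have memW : ∀ c v, v ∈ W c ↔ ∀ b, ρ (S.u 0 b) v = χ (c * b) • v := fun _ _ => Iff.rfl
  let e : F → V →ₗ[ℂ] V := fun c => ∑ b, χ (c * b) • ρ (S.u 0 b)
  have he : ∀ c v, e c v = ∑ b, χ (c * b) • ρ (S.u 0 b) v := fun c v => by simp [e, LinearMap.sum_apply]
  have he1 : ∀ v, ∑ c, e c v = (S.q : ℂ) • v := fun v => by
    simp only [he]
    rw [Finset.sum_comm]
    simp only [← Finset.sum_smul, hsum]
    simp
  have he2 : ∀ c v, e c v ∈ W c := fun c v d => by
    rw [he, map_sum, Finset.smul_sum]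
    refine Fintype.sum_equiv (Equiv.addLeft d) _ _ fun b => ?_
    rw [map_smul, ← Module.End.mul_apply, ← map_mul, u_zero_mul, Equiv.coe_addLeft, mul_add, hadd, smul_smul,
      ← mul_assoc, hsq, one_mul]
  have he3 : ∀ c c' v, v ∈ W c' → e c v = (if c + c' = 0 then (S.q : ℂ) else 0) • v := fun c c' v hv => by
    rw [he, ← hsum, Finset.sum_smul]
    refine Finset.sum_congr rfl fun b _ => ?_
    rw [hv, smul_smul, ← hadd, ← add_mul, mul_comm]
  have hsumW : ∑ c, finrank ℂ (W c) ≤ finrank ℂ V := by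
    rw [← finrank_pi_fintype ℂ]
    let Φ : (Π c, W c) →ₗ[ℂ] V := ∑ c, (W c).subtype ∘ₗ LinearMap.proj c
    refine LinearMap.finrank_le_finrank_of_injective (f := Φ) ?_
    rw [injective_iff_map_eq_zero]
    intro f hf
    ext c
    have h1 := congrArg (e c) hf
    simp only [Φ, LinearMap.sum_apply, map_sum, LinearMap.comp_apply, LinearMap.proj_apply, Submodule.subtype_apply,
      map_zero] at h1
    rw [Finset.sum_eq_single c] at h1
    · rw [he3 c c _ (f c).2, if_pos (CharTwo.add_self_eq_zero c)] at h1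
      exact (smul_eq_zero.1 h1).resolve_left hq
    · intro c' _ hc
      rw [he3 c c' _ (f c').2, if_neg (fun h => hc (by grind)), zero_smul]
    · simp
  have hex : ∃ c, c ≠ 0 ∧ W c ≠ ⊥ := by
    by_contra hne
    push Not at hne
    apply hρ
    ext1 v
    have h1 : (S.q : ℂ) • v ∈ W 0 := by
      rw [← he1]
      refine Submodule.sum_mem _ fun c _ => ?_
      by_cases hc : c = 0
      · rw [hc]; exact he2 0 v
      · have := he2 c v
        rw [hne c hc] at this
        rw [(Submodule.mem_bot ℂ).1 this]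
        exact zero_mem _
    have h2 := h1 1
    rw [zero_mul, h0, one_smul, map_smul] at h2
    exact smul_right_injective V hq h2
  have hall : ∀ c, c ≠ 0 → W c ≠ ⊥ := fun c hc => by
    obtain ⟨c₀, hc₀, h1⟩ := hex
    obtain ⟨v, hv, hv0⟩ := (Submodule.ne_bot_iff _).1 h1
    obtain ⟨k, hk⟩ := S.mul_θ_surjective (c / c₀)
    simp only at hk
    have hk0 : k ≠ 0 := by
      rintro rfl
      rw [zero_mul] at hk
      exact div_ne_zero hc hc₀ hk.symm
    refine (Submodule.ne_bot_iff _).2 ⟨ρ (S.h (Units.mk0 k hk0))⁻¹ v, fun b => ?_, fun h => hv0 ?_⟩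
    · have h2 : S.u 0 b * (S.h (Units.mk0 k hk0))⁻¹ = (S.h (Units.mk0 k hk0))⁻¹ * S.u 0 (c / c₀ * b) := by
        have := S.h_conj_u (Units.mk0 k hk0) 0 b
        rw [mul_zero, Units.val_mk0, hk] at this
        rw [← this]
        group
      rw [← Module.End.mul_apply, ← map_mul, h2, map_mul, Module.End.mul_apply, hv, map_smul, ← mul_assoc,
        mul_div_cancel₀ _ hc₀]
    · have := congrArg (ρ (S.h (Units.mk0 k hk0))) h
      rwa [← Module.End.mul_apply, ← map_mul, mul_inv_cancel, map_one, map_zero] at this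
  have hbound : ∀ c, c ≠ 0 → 2 ^ S.m ≤ finrank ℂ (W c) := fun c hc => by
    have hmaps : ∀ a, ∀ v ∈ W c, ρ (S.u a 0) v ∈ W c := fun a v hv b => by
      rw [← Module.End.mul_apply, ← map_mul, ← S.comm_of_mem_Z (S.u_mem_Z b) (S.u_mem_U a 0), map_mul,
        Module.End.mul_apply, hv, map_smul]
    let σ : F → Module.End ℂ (W c) := fun a => (ρ (S.u a 0)).restrict (hmaps a)
    have hσ : ∀ a a', σ a * σ a' = χ (c * (S.θ a * a')) • σ (a + a') := fun a a' => by
      ext v
      have h1 : S.u a 0 * S.u a' 0 = S.u (a + a') 0 * S.u 0 (S.θ a * a') := by rw [u_mul, u_mul]; simp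
      change ρ (S.u a 0) (ρ (S.u a' 0) v) = χ _ • ρ (S.u (a + a') 0) v
      rw [← Module.End.mul_apply, ← map_mul, h1, map_mul, Module.End.mul_apply, v.2, map_smul]
    have hσ0 : σ 0 = 1 := by
      ext v
      change ρ (S.u 0 0) v = v
      rw [u_zero, map_one]; rfl
    have hθc : S.θ c ≠ 0 := (map_ne_zero _).2 hc
    have htr : ∀ a, a ≠ 0 → a ≠ c / S.θ c → LinearMap.trace ℂ _ (σ a) = 0 := fun a ha ha' => by
      have h1 : c * a + S.θ c * a ^ 2 ≠ 0 := fun h => ha' (by
        rw [eq_div_iff hθc]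
        refine mul_left_cancel₀ ha ?_
        grind)
      obtain ⟨y, hy⟩ := S.θ_surjective (x₀ / (c * a + S.θ c * a ^ 2))
      have h2 : χ (c * (S.θ y * a)) * χ (c * (S.θ a * y)) = -1 := by
        rw [← hθ (c * (S.θ a * y)), ← hadd, map_mul, map_mul, θθ, ← hx₀, ← div_mul_cancel₀ x₀ h1, ← hy]
        congr 1
        ring
      have h3 := LinearMap.trace_mul_comm ℂ (σ y) (σ (a + y))
      rw [hσ, hσ, map_smul, map_smul, show y + (a + y) = a by grind, show a + y + y = a by grind, mul_add, map_add,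
        add_mul, mul_add, mul_add, hadd, hadd, smul_eq_mul, smul_eq_mul] at h3
      have h4 := hsq (c * (S.θ y * y))
      have h5 := hsq (c * (S.θ y * a))
      linear_combination (χ (c * (S.θ y * a)) * χ (c * (S.θ y * y)) / 2) * h3 -
        (LinearMap.trace ℂ _ (σ a) * χ (c * (S.θ y * y)) ^ 2 / 2) * (h5 - h2) - LinearMap.trace ℂ _ (σ a) * h4
    obtain ⟨A, hA1, hA2⟩ := hA (c / S.θ c) (div_ne_zero hc hθc)
    have hd : 0 < finrank ℂ (W c) := Nat.pos_of_ne_zero fun h => hall c hc (Submodule.finrank_eq_zero.1 h)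
    have hli : LinearIndependent ℂ fun a : A => σ a := by
      rw [Fintype.linearIndependent_iff]
      intro g hg a
      have h1 := congrArg (fun f => LinearMap.trace ℂ _ (σ a * f)) hg
      simp only [Finset.mul_sum, mul_smul_comm, hσ, map_sum, map_smul, mul_zero, map_zero, smul_eq_mul] at h1
      rw [Finset.sum_eq_single a] at h1
      · rw [CharTwo.add_self_eq_zero, hσ0, LinearMap.trace_one] at h1
        refine (mul_eq_zero.1 h1).resolve_right (mul_ne_zero (left_ne_zero_of_mul_eq_one (hsq _)) ?_)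
        exact_mod_cast hd.ne'
      · intro b _ hb
        rw [htr _ (fun h => hb (Subtype.ext (by grind))) (fun h => hA1 (h ▸ A.add_mem a.2 b.2)), mul_zero, mul_zero]
      · simp
    have h1 := hli.fintype_card_le_finrank
    rw [← Nat.card_eq_fintype_card, hA2, Module.finrank_linearMap, mul_comm 2, pow_mul, ← sq] at h1
    exact (Nat.pow_le_pow_iff_left two_ne_zero).1 h1
  refine le_trans ?_ hsumW
  calc 2 ^ S.m * (S.q - 1) = ∑ c ∈ (Finset.univ : Finset F).erase 0, 2 ^ S.m := by
        rw [Finset.sum_const, Finset.card_erase_of_mem (Finset.mem_univ _), Finset.card_univ,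
          ← Nat.card_eq_fintype_card, S.card, smul_eq_mul, mul_comm]
    _ ≤ ∑ c ∈ (Finset.univ : Finset F).erase 0, finrank ℂ (W c) :=
        Finset.sum_le_sum fun c hc => hbound c (Finset.ne_of_mem_erase hc)
    _ ≤ _ := Finset.sum_le_sum_of_subset (Finset.erase_subset _ _)

end SzData

theorem rep_ne_one_of_isSimpleGroup {G k : Type*} [Group G] [IsSimpleGroup G] [Field k] {n : ℕ}
    (ρ : Representation k G (Fin n → k)) (hρ : ρ.IsIrreducible) (hn : 2 ≤ n) {g : G} (hg : g ≠ 1) : ρ g ≠ 1 := by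
  intro h
  have h1 : ρ.ker = ⊤ := (IsSimpleGroup.eq_bot_or_eq_top_of_normal ρ.ker inferInstance).resolve_left
    fun e => hg (mem_bot.1 (e.le h))
  have hv : (Pi.single (⟨0, by omega⟩ : Fin n) (1 : k) : Fin n → k) ≠ 0 := by simp
  let W : Subrepresentation ρ := ⟨k ∙ (Pi.single (⟨0, by omega⟩ : Fin n) (1 : k) : Fin n → k), fun x v hv => by
    rw [MonoidHom.mem_ker.1 (h1.ge (mem_top x))]
    exact hv⟩
  have h2 : finrank k W.toSubmodule = 1 := finrank_span_singleton hv
  rcases hρ.eq_bot_or_eq_top W with h3 | h3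
  · rw [h3] at h2
    change finrank k (⊥ : Submodule k (Fin n → k)) = 1 at h2
    simp at h2
  · rw [h3] at h2
    change finrank k (⊤ : Submodule k (Fin n → k)) = 1 at h2
    simp at h2
    omega

end Cfsg.Agent.H13
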