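import Mathlib
import Cfsg.Agent.H13.XN1

/-! A Clifford-type algebra computation and eigenvalue classifications. -/

set_option autoImplicit false

namespace Cfsg.Agent.H13.XE

open Module Polynomial Cfsg.Geo L0 H10 H11
open scoped MatrixGroups Matrix

section Ring
variable {A : Type*} [Ring A] {a b c d : A}

/-- relations of `Q₈ ∘ D₈` -/
structure Rel (a b c d : A) : Prop where
  aa : a * a = -1
  bb : b * b = -1
  cc : c * c = 1
  dd : d * d = 1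
  ba : b * a = -(a * b)
  dc : d * c = -(c * d)
  ca : c * a = a * c
  cb : c * b = b * c
  da : d * a = a * d
  db : d * b = b * d

theorem Rel.aa' (h : Rel a b c d) (x : A) : a * (a * x) = -x := by rw [← mul_assoc, h.aa]; simp
theorem Rel.bb' (h : Rel a b c d) (x : A) : b * (b * x) = -x := by rw [← mul_assoc, h.bb]; simp
theorem Rel.cc' (h : Rel a b c d) (x : A) : c * (c * x) = x := by rw [← mul_assoc, h.cc]; simp
theorem Rel.dd' (h : Rel a b c d) (x : A) : d * (d * x) = x := by rw [← mul_assoc, h.dd]; simp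
theorem Rel.ba' (h : Rel a b c d) (x : A) : b * (a * x) = -(a * (b * x)) := by
  rw [← mul_assoc, h.ba]; simp [mul_assoc]
theorem Rel.dc' (h : Rel a b c d) (x : A) : d * (c * x) = -(c * (d * x)) := by
  rw [← mul_assoc, h.dc]; simp [mul_assoc]
theorem Rel.ca' (h : Rel a b c d) (x : A) : c * (a * x) = a * (c * x) := by
  rw [← mul_assoc, h.ca, mul_assoc]
theorem Rel.cb' (h : Rel a b c d) (x : A) : c * (b * x) = b * (c * x) := by
  rw [← mul_assoc, h.cb, mul_assoc]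
theorem Rel.da' (h : Rel a b c d) (x : A) : d * (a * x) = a * (d * x) := by
  rw [← mul_assoc, h.da, mul_assoc]
theorem Rel.db' (h : Rel a b c d) (x : A) : d * (b * x) = b * (d * x) := by
  rw [← mul_assoc, h.db, mul_assoc]

/-- integral combinations of the sixteen monomials -/
def E16 (a b c d : A) (x0 x1 x2 x3 x4 x5 x6 x7 x8 x9 x10 x11 x12 x13 x14 x15 : ℤ) : A :=
  x0 • (1 : A) + x1 • (d) + x2 • (c) + x3 • (c * d) + x4 • (b) + x5 • (b * d) + x6 • (b * c) + x7 • (b * (c * d)) + x8 • (a) + x9 • (a * d) + x10 • (a * c) + x11 • (a * (c * d)) + x12 • (a * b) + x13 • (a * (b * d)) + x14 • (a * (b * c)) + x15 • (a * (b * (c * d)))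

theorem Rel.s1 (h : Rel a b c d) (x0 x1 x2 x3 x4 x5 x6 x7 x8 x9 x10 x11 x12 x13 x14 x15 : ℤ) :
    E16 a b c d x0 x1 x2 x3 x4 x5 x6 x7 x8 x9 x10 x11 x12 x13 x14 x15 * (1 + c * d) =
      E16 a b c d (x0 - x3) (x1 + x2) (x2 - x1) (x3 + x0) (x4 - x7) (x5 + x6) (x6 - x5) (x7 + x4) (x8 - x11) (x9 + x10) (x10 - x9) (x11 + x8) (x12 - x15) (x13 + x14) (x14 - x13) (x15 + x12) := by
  simp only [E16, mul_add, add_mul, mul_one, one_mul, smul_mul_assoc, mul_assoc, h.aa, h.bb, h.cc, h.dd, h.ba, h.dc, h.ca, h.cb, h.da, h.db, h.aa', h.bb', h.cc', h.dd', h.ba', h.dc', h.ca', h.cb', h.da', h.db', mul_neg, neg_mul, neg_neg]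
  module

theorem Rel.s2 (h : Rel a b c d) (x0 x1 x2 x3 x4 x5 x6 x7 x8 x9 x10 x11 x12 x13 x14 x15 : ℤ) :
    E16 a b c d x0 x1 x2 x3 x4 x5 x6 x7 x8 x9 x10 x11 x12 x13 x14 x15 * (1 + a * c) =
      E16 a b c d (x0 - x10) (x1 + x11) (x2 - x8) (x3 + x9) (x4 + x14) (x5 - x15) (x6 + x12) (x7 - x13) (x8 + x2) (x9 - x3) (x10 + x0) (x11 - x1) (x12 - x6) (x13 + x7) (x14 - x4) (x15 + x5) := by
  simp only [E16, mul_add, add_mul, mul_one, one_mul, smul_mul_assoc, mul_assoc, h.aa, h.bb, h.cc, h.dd, h.ba, h.dc, h.ca, h.cb, h.da, h.db, h.aa', h.bb', h.cc', h.dd', h.ba', h.dc', h.ca', h.cb', h.da', h.db', mul_neg, neg_mul, neg_neg]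
  module

theorem Rel.s3 (h : Rel a b c d) (x0 x1 x2 x3 x4 x5 x6 x7 x8 x9 x10 x11 x12 x13 x14 x15 : ℤ) :
    E16 a b c d x0 x1 x2 x3 x4 x5 x6 x7 x8 x9 x10 x11 x12 x13 x14 x15 * (1 + a * b) =
      E16 a b c d (x0 - x12) (x1 - x13) (x2 - x14) (x3 - x15) (x4 - x8) (x5 - x9) (x6 - x10) (x7 - x11) (x8 + x4) (x9 + x5) (x10 + x6) (x11 + x7) (x12 + x0) (x13 + x1) (x14 + x2) (x15 + x3) := by
  simp only [E16, mul_add, add_mul, mul_one, one_mul, smul_mul_assoc, mul_assoc, h.aa, h.bb, h.cc, h.dd, h.ba, h.dc, h.ca, h.cb, h.da, h.db, h.aa', h.bb', h.cc', h.dd', h.ba', h.dc', h.ca', h.cb', h.da', h.db', mul_neg, neg_mul, neg_neg]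
  module

theorem Rel.s4 (h : Rel a b c d) (x0 x1 x2 x3 x4 x5 x6 x7 x8 x9 x10 x11 x12 x13 x14 x15 : ℤ) :
    E16 a b c d x0 x1 x2 x3 x4 x5 x6 x7 x8 x9 x10 x11 x12 x13 x14 x15 * (1 + a) =
      E16 a b c d (x0 - x8) (x1 - x9) (x2 - x10) (x3 - x11) (x4 + x12) (x5 + x13) (x6 + x14) (x7 + x15) (x8 + x0) (x9 + x1) (x10 + x2) (x11 + x3) (x12 - x4) (x13 - x5) (x14 - x6) (x15 - x7) := by
  simp only [E16, mul_add, add_mul, mul_one, one_mul, smul_mul_assoc, mul_assoc, h.aa, h.bb, h.cc, h.dd, h.ba, h.dc, h.ca, h.cb, h.da, h.db, h.aa', h.bb', h.cc', h.dd', h.ba', h.dc', h.ca', h.cb', h.da', h.db', mul_neg, neg_mul, neg_neg]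
  module

theorem E16_one (a b c d : A) : E16 a b c d 1 0 0 0 0 0 0 0 0 0 0 0 0 0 0 0 = 1 := by simp [E16]

theorem Rel.five (h : Rel a b c d) :
    ((1 + c * d) * (1 + a * c) * (1 + a * b) * (1 + a)) ^ 5 = -1024 ∧
    (1 + c * d) * (1 + a * c) * (1 + a * b) * (1 + a) =
      E16 a b c d 1 1 (-1) 1 1 1 (-1) 1 1 (-1) 1 1 1 (-1) 1 1 := by
  have e1 : E16 a b c d 1 0 0 0 0 0 0 0 0 0 0 0 0 0 0 0 * ((1 + c * d) * (1 + a * c) * (1 + a * b) * (1 + a)) =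
      E16 a b c d 1 1 (-1) 1 1 1 (-1) 1 1 (-1) 1 1 1 (-1) 1 1 := by
    rw [← mul_assoc, ← mul_assoc, ← mul_assoc, h.s1, h.s2, h.s3, h.s4]; norm_num
  have e2 : E16 a b c d 1 1 (-1) 1 1 1 (-1) 1 1 (-1) 1 1 1 (-1) 1 1 * ((1 + c * d) * (1 + a * c) * (1 + a * b) * (1 + a)) =
      E16 a b c d (-4) 4 (-4) (-4) 4 4 (-4) 4 (-4) (-4) (-4) 4 (-4) 4 4 4 := by
    rw [← mul_assoc, ← mul_assoc, ← mul_assoc, h.s1, h.s2, h.s3, h.s4]; norm_num
  have e3 : E16 a b c d (-4) 4 (-4) (-4) 4 4 (-4) 4 (-4) (-4) (-4) 4 (-4) 4 4 4 * ((1 + c * d) * (1 + a * c) * (1 + a * b) * (1 + a)) =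
      E16 a b c d 16 (-16) 16 (-16) 16 16 (-16) (-16) (-16) (-16) (-16) (-16) (-16) 16 16 (-16) := by
    rw [← mul_assoc, ← mul_assoc, ← mul_assoc, h.s1, h.s2, h.s3, h.s4]; norm_num
  have e4 : E16 a b c d 16 (-16) 16 (-16) 16 16 (-16) (-16) (-16) (-16) (-16) (-16) (-16) 16 16 (-16) * ((1 + c * d) * (1 + a * c) * (1 + a * b) * (1 + a)) =
      E16 a b c d (-64) (-64) 64 64 64 64 (-64) (-64) 64 (-64) 64 (-64) 64 (-64) 64 (-64) := by
    rw [← mul_assoc, ← mul_assoc, ← mul_assoc, h.s1, h.s2, h.s3, h.s4]; norm_num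
  have e5 : E16 a b c d (-64) (-64) 64 64 64 64 (-64) (-64) 64 (-64) 64 (-64) 64 (-64) 64 (-64) * ((1 + c * d) * (1 + a * c) * (1 + a * b) * (1 + a)) =
      E16 a b c d (-1024) 0 0 0 0 0 0 0 0 0 0 0 0 0 0 0 := by
    rw [← mul_assoc, ← mul_assoc, ← mul_assoc, h.s1, h.s2, h.s3, h.s4]; norm_num
  constructor
  · rw [pow_succ, pow_succ, pow_succ, pow_succ, pow_succ, pow_zero]
    nth_rw 1 [← E16_one a b c d]
    rw [e1, e2, e3, e4, e5]
    simp [E16]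
  · rw [← e1, E16_one, one_mul]

end Ring

end Cfsg.Agent.H13.XE
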